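import Groth.Prelude.Def_W4c1liftfrobW2
import Mathlib.RingTheory.Flat.EquationalCriterion
import Mathlib.RingTheory.Flat.Basic
import Mathlib.FieldTheory.Perfect
import Mathlib.RingTheory.WittVector.Identities
import Mathlib.RingTheory.WittVector.Teichmuller

set_option autoImplicit false
set_option linter.unusedSectionVars false

open scoped TensorProduct

namespace Groth.Agent.W2Lift

universe u

open FrobAlg (W2 res)

variable {p : ℕ} [hp : Fact p.Prime] {k : Type u} [Field k] [CharP k p] [PerfectRing k p]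

lemma coeff0_natCast_p : res p k (p : W2 p k) = 0 := by
  rw [map_natCast]; exact CharP.cast_eq_zero k p

lemma mul_p_coeff_one (X : WittVector p k) :
    (WittVector.truncate 2 (X * (p : WittVector p k))).coeff 1 = X.coeff 0 ^ p := by
  rw [WittVector.coeff_truncate]
  exact WittVector.mul_charP_coeff_succ X 0

lemma eq_of_res_zero {x y : W2 p k} (hx : res p k x = 0) (hy : res p k y = 0)
    (h : x.coeff 1 = y.coeff 1) : x = y := by
  rw [FrobAlg.res_apply] at hx hy
  refine TruncatedWittVector.ext fun i => ?_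
  fin_cases i
  · exact hx.trans hy.symm
  · exact h

lemma res_eq_zero_iff_dvd (x : W2 p k) : res p k x = 0 ↔ (p : W2 p k) ∣ x := by
  constructor
  · intro h
    obtain ⟨t, ht⟩ := surjective_frobenius k p (x.coeff 1)
    obtain ⟨X, hX⟩ : ∃ X : WittVector p k, X.coeff 0 = t :=
      ⟨WittVector.teichmuller p t, WittVector.teichmuller_coeff_zero p t⟩
    refine ⟨WittVector.truncate 2 X, eq_of_res_zero h ?_ ?_⟩
    · rw [map_mul, coeff0_natCast_p, zero_mul]
    · rw [← map_natCast (WittVector.truncate (p := p) (R := k) 2), ← map_mul, mul_comm,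
        mul_p_coeff_one, hX]
      exact ht.symm
  · rintro ⟨c, rfl⟩
    rw [map_mul, coeff0_natCast_p, zero_mul]

lemma res_eq_zero_of_p_mul {x : W2 p k} (h : (p : W2 p k) * x = 0) : res p k x = 0 := by
  obtain ⟨X, rfl⟩ := WittVector.truncate_surjective p 2 k x
  have h1 : (WittVector.truncate 2 (X * (p : WittVector p k))).coeff 1 = 0 := by
    rw [map_mul, map_natCast, mul_comm, h, TruncatedWittVector.coeff_zero]
  rw [mul_p_coeff_one] at h1
  rw [FrobAlg.res_truncate]
  exact (pow_eq_zero_iff hp.out.ne_zero).1 h1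

lemma p_mul_p : (p : W2 p k) * (p : W2 p k) = 0 := by
  refine eq_of_res_zero (by rw [map_mul, coeff0_natCast_p, zero_mul]) (map_zero _) ?_
  nth_rewrite 1 2 [← map_natCast (WittVector.truncate (p := p) (R := k) 2)]
  rw [← map_mul, mul_p_coeff_one]
  have : (p : WittVector p k).coeff 0 = 0 := WittVector.coeff_p_zero p k
  rw [this, zero_pow hp.out.ne_zero, TruncatedWittVector.coeff_zero]

lemma ker_res : RingHom.ker (res p k) = Ideal.span {(p : W2 p k)} := by
  ext x; rw [RingHom.mem_ker, Ideal.mem_span_singleton, res_eq_zero_iff_dvd]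

lemma res_surjective : Function.Surjective (res p k) := fun a =>
  ⟨WittVector.truncate 2 (WittVector.teichmuller p a), by
    rw [FrobAlg.res_truncate, WittVector.teichmuller_coeff_zero]⟩

lemma isUnit_of_res_ne_zero {x : W2 p k} (h : res p k x ≠ 0) : IsUnit x := by
  obtain ⟨y, hy⟩ := res_surjective (p := p) (res p k x)⁻¹
  have h1 : res p k (1 - x * y) = 0 := by
    rw [map_sub, map_one, map_mul, hy, mul_inv_cancel₀ h, sub_self]
  obtain ⟨c, hc⟩ := (res_eq_zero_iff_dvd _).1 h1
  have hn : IsNilpotent ((p : W2 p k) * c) := ⟨2, by rw [mul_pow, sq, p_mul_p, zero_mul]⟩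
  have hu : IsUnit (x * y) := by
    have : x * y = 1 - (p : W2 p k) * c := by rw [← hc]; ring
    rw [this]; exact hn.isUnit_one_sub
  exact isUnit_of_mul_isUnit_left hu

instance isNoetherianRing : IsNoetherianRing (W2 p k) := by
  refine ⟨fun I => ?_⟩
  by_cases h : I ≤ RingHom.ker (res p k)
  · by_cases h0 : I = ⊥
    · subst h0; exact Submodule.fg_bot
    · obtain ⟨x, hxI, hx⟩ := Submodule.exists_mem_ne_zero_of_ne_bot h0
      have : I = Ideal.span {(p : W2 p k)} := by
        refine le_antisymm (ker_res (p := p) (k := k) ▸ h) ?_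
        rw [Ideal.span_singleton_le_iff_mem]
        obtain ⟨y, rfl⟩ := (res_eq_zero_iff_dvd x).1 (h hxI)
        have hy : res p k y ≠ 0 := by
          intro hy
          obtain ⟨z, rfl⟩ := (res_eq_zero_iff_dvd y).1 hy
          exact hx (by rw [← mul_assoc, p_mul_p, zero_mul])
        obtain ⟨v, hv⟩ := (isUnit_of_res_ne_zero hy)
        have := Ideal.mul_mem_right (↑v⁻¹) I hxI
        rwa [← hv, mul_assoc, Units.mul_inv, mul_one] at this
      rw [this]; exact ⟨{(p : W2 p k)}, by simp⟩
  · obtain ⟨x, hxI, hx⟩ := SetLike.not_le_iff_exists.1 h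
    rw [Ideal.eq_top_of_isUnit_mem I hxI (isUnit_of_res_ne_zero hx)]
    exact ⟨{1}, by simp⟩

lemma mem_span_p_of_flat {M : Type u} [AddCommGroup M] [Module (W2 p k) M] [Module.Flat (W2 p k) M]
    {x : M} (h : (p : W2 p k) • x = 0) : ∃ y : M, x = (p : W2 p k) • y := by
  have ht := Module.Flat.isTrivialRelation_of_sum_smul_eq_zero (R := W2 p k) (M := M)
    (f := fun _ : Fin 1 => (p : W2 p k)) (x := fun _ => x) (by simpa using h)
  obtain ⟨κ, a, y, hx, ha⟩ := ht
  have : ∀ j, ∃ c, a 0 j = (p : W2 p k) * c := fun j =>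
    (res_eq_zero_iff_dvd _).1 (res_eq_zero_of_p_mul (by simpa using ha j))
  choose c hc using this
  refine ⟨∑ j, c j • y j, ?_⟩
  rw [show x = ∑ j, a 0 j • y j from hx 0, Finset.smul_sum]
  exact Finset.sum_congr rfl fun j _ => by rw [hc j, mul_smul]

lemma flat_of_ann {M : Type u} [AddCommGroup M] [Module (W2 p k) M]
    (h : ∀ x : M, (p : W2 p k) • x = 0 → ∃ y : M, x = (p : W2 p k) • y) :
    Module.Flat (W2 p k) M := by
  rw [Module.Flat.iff_rTensor_injective']
  intro I
  by_cases hI : I ≤ RingHom.ker (res p k)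
  · rw [← LinearMap.ker_eq_bot, eq_bot_iff]
    intro z hz
    rw [Submodule.mem_bot]
    rw [LinearMap.mem_ker] at hz
    by_cases h0 : I = ⊥
    · subst h0; exact Subsingleton.elim _ _
    · obtain ⟨x, hxI, hx⟩ := Submodule.exists_mem_ne_zero_of_ne_bot h0
      have hp' : (p : W2 p k) ∈ I := by
        obtain ⟨y, rfl⟩ := (res_eq_zero_iff_dvd x).1 (hI hxI)
        have hy : res p k y ≠ 0 := by
          intro hy
          obtain ⟨z, rfl⟩ := (res_eq_zero_iff_dvd y).1 hy
          exact hx (by rw [← mul_assoc, p_mul_p, zero_mul])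
        obtain ⟨v, hv⟩ := (isUnit_of_res_ne_zero hy)
        have := Ideal.mul_mem_right (↑v⁻¹) I hxI
        rwa [← hv, mul_assoc, Units.mul_inv, mul_one] at this
      have key : ∀ t : I ⊗[W2 p k] M, ∃ m : M, t = (⟨(p : W2 p k), hp'⟩ : I) ⊗ₜ m := by
        intro t
        induction t using TensorProduct.induction_on with
        | zero => exact ⟨0, by simp⟩
        | tmul i m =>
          obtain ⟨c, hc⟩ := (res_eq_zero_iff_dvd _).1 (hI i.2)
          refine ⟨c • m, ?_⟩
          rw [TensorProduct.tmul_smul, TensorProduct.smul_tmul']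
          congr 1
          exact Subtype.ext (by simp [hc, mul_comm])
        | add a b ha hb =>
          obtain ⟨m, rfl⟩ := ha; obtain ⟨m', rfl⟩ := hb
          exact ⟨m + m', (TensorProduct.tmul_add _ _ _).symm⟩
      obtain ⟨m, rfl⟩ := key z
      have hm : (p : W2 p k) • m = 0 := by
        simpa using congrArg (TensorProduct.lid (W2 p k) M) hz
      obtain ⟨y, rfl⟩ := h m hm
      rw [TensorProduct.tmul_smul, TensorProduct.smul_tmul']
      have h0 : (p : W2 p k) • (⟨(p : W2 p k), hp'⟩ : I) = 0 := Subtype.ext p_mul_p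
      rw [h0, TensorProduct.zero_tmul]
  · obtain ⟨x, hxI, hx⟩ := SetLike.not_le_iff_exists.1 hI
    have hI' : I = ⊤ := Ideal.eq_top_of_isUnit_mem I hxI (isUnit_of_res_ne_zero hx)
    subst hI'
    exact (LinearEquiv.rTensor M
      (Submodule.topEquiv : (⊤ : Submodule (W2 p k) (W2 p k)) ≃ₗ[W2 p k] W2 p k)).injective

section lift

variable {A : Type u} [CommRing A] [Algebra k A] {B : Type u} [CommRing B]
  {ι : W2 p k →+* B} {π : B →+* A}

lemma map_ker_res (ι : W2 p k →+* B) :
    Ideal.map ι (RingHom.ker (res p k)) = Ideal.span {(p : B)} := by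
  rw [ker_res, Ideal.map_span, Set.image_singleton, map_natCast]

lemma lift_p_sq (ι : W2 p k →+* B) : (p : B) * (p : B) = 0 := by
  have h1 := congrArg ι (p_mul_p (p := p) (k := k))
  rwa [map_mul, map_natCast, map_zero] at h1

variable (h : FrobAlg.IsLift p k A B ι π)
include h

lemma lift_ker_iff (b : B) : π b = 0 ↔ (p : B) ∣ b := by
  rw [← RingHom.mem_ker, h.ker_eq, map_ker_res, Ideal.mem_span_singleton]

lemma lift_map_p : π (p : B) = 0 := (lift_ker_iff h _).2 dvd_rfl

lemma lift_p_mul_iff (b : B) : (p : B) * b = 0 ↔ π b = 0 := by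
  constructor
  · intro hb
    let alg : Algebra (W2 p k) B := ι.toAlgebra
    haveI : Module.Flat (W2 p k) B := h.flat
    have : (p : W2 p k) • b = 0 := by
      rw [Algebra.smul_def, map_natCast]; exact hb
    obtain ⟨y, hy⟩ := mem_span_p_of_flat this
    rw [hy, Algebra.smul_def, map_natCast, map_mul, lift_map_p h, zero_mul]
  · intro hb
    obtain ⟨c, rfl⟩ := (lift_ker_iff h b).1 hb
    rw [← mul_assoc, lift_p_sq ι, zero_mul]

lemma lift_p_mul_congr {b b' : B} (hb : π b = π b') : (p : B) * b = (p : B) * b' := by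
  rw [← sub_eq_zero, ← mul_sub, lift_p_mul_iff h, map_sub, hb, sub_self]

lemma lift_isUnit {b : B} (hb : IsUnit (π b)) : IsUnit b := by
  obtain ⟨a, ha⟩ := hb.exists_right_inv
  obtain ⟨c, rfl⟩ := h.surj a
  have h1 : π (1 - b * c) = 0 := by rw [map_sub, map_one, map_mul, ha, sub_self]
  obtain ⟨d, hd⟩ := (lift_ker_iff h _).1 h1
  have hn : IsNilpotent ((p : B) * d) := ⟨2, by rw [mul_pow, sq, lift_p_sq ι, zero_mul]⟩
  have hu : IsUnit (b * c) := by
    have : b * c = 1 - (p : B) * d := by rw [← hd]; ring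
    rw [this]; exact hn.isUnit_one_sub
  exact isUnit_of_mul_isUnit_left hu

omit h

lemma isLift_of (ι : W2 p k →+* B) (π : B →+* A) (hs : Function.Surjective π)
    (hc : π.comp ι = (algebraMap k A).comp (res p k))
    (hk : ∀ b : B, π b = 0 → (p : B) ∣ b) (hann : ∀ b : B, (p : B) * b = 0 → π b = 0) :
    FrobAlg.IsLift p k A B ι π where
  surj := hs
  comm := hc
  ker_eq := by
    rw [map_ker_res]
    ext b
    rw [RingHom.mem_ker, Ideal.mem_span_singleton]
    refine ⟨hk b, ?_⟩
    rintro ⟨c, rfl⟩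
    have hπp : π (p : B) = 0 := by
      have h1 := RingHom.congr_fun hc (p : W2 p k)
      rw [RingHom.comp_apply, RingHom.comp_apply, map_natCast, coeff0_natCast_p, map_zero] at h1
      exact h1
    rw [map_mul, hπp, zero_mul]
  flat := by
    let alg : Algebra (W2 p k) B := ι.toAlgebra
    refine flat_of_ann (M := B) fun x hx => ?_
    rw [Algebra.smul_def, map_natCast] at hx
    obtain ⟨c, hc'⟩ := hk x (hann x hx)
    exact ⟨c, by rw [Algebra.smul_def, map_natCast]; exact hc'⟩

end lift

end Groth.Agent.W2Lift
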