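import Groth.Agent.W2Lift.Basic

/-! Universe-polymorphic flatness criterion over W2(k); quotients of flat algebras. -/

set_option autoImplicit false
set_option linter.unusedSectionVars false

open scoped TensorProduct

namespace Groth.Agent.W2Lift

universe u v

open FrobAlg (W2 res)

variable {p : ℕ} [hp : Fact p.Prime] {k : Type u} [Field k] [CharP k p] [PerfectRing k p]

lemma mem_span_p_of_flat' {M : Type v} [AddCommGroup M] [Module (W2 p k) M] [Module.Flat (W2 p k) M]
    {x : M} (h : (p : W2 p k) • x = 0) : ∃ y : M, x = (p : W2 p k) • y := by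
  have ht := Module.Flat.isTrivialRelation_of_sum_smul_eq_zero (R := W2 p k) (M := M)
    (f := fun _ : Fin 1 => (p : W2 p k)) (x := fun _ => x) (by simpa using h)
  obtain ⟨κ, a, y, hx, ha⟩ := ht
  have : ∀ j, ∃ c, a 0 j = (p : W2 p k) * c := fun j =>
    (res_eq_zero_iff_dvd _).1 (res_eq_zero_of_p_mul (by simpa using ha j))
  choose c hc using this
  refine ⟨∑ j, c j • y j, ?_⟩
  rw [show x = ∑ j, a 0 j • y j from hx 0, Finset.smul_sum]
  exact Finset.sum_congr rfl fun j _ => by rw [hc j, mul_smul]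

lemma flat_of_ann' {M : Type v} [AddCommGroup M] [Module (W2 p k) M]
    (h : ∀ x : M, (p : W2 p k) • x = 0 → ∃ y : M, x = (p : W2 p k) • y) :
    Module.Flat (W2 p k) M := by
  rw [Module.Flat.iff_rTensor_injective']
  intro I
  by_cases hI : I ≤ RingHom.ker (res p k)
  · rw [← LinearMap.ker_eq_bot, eq_bot_iff]
    intro z hz
    rw [Submodule.mem_bot]
    rw [LinearMap.mem_ker] at hz
    by_cases h0 : I = ⊥
    · subst h0; exact Subsingleton.elim _ _
    · obtain ⟨x, hxI, hx⟩ := Submodule.exists_mem_ne_zero_of_ne_bot h0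
      have hp' : (p : W2 p k) ∈ I := by
        obtain ⟨y, rfl⟩ := (res_eq_zero_iff_dvd x).1 (hI hxI)
        have hy : res p k y ≠ 0 := by
          intro hy
          obtain ⟨z, rfl⟩ := (res_eq_zero_iff_dvd y).1 hy
          exact hx (by rw [← mul_assoc, p_mul_p, zero_mul])
        obtain ⟨v, hv⟩ := (isUnit_of_res_ne_zero hy)
        have := Ideal.mul_mem_right (↑v⁻¹) I hxI
        rwa [← hv, mul_assoc, Units.mul_inv, mul_one] at this
      have key : ∀ t : I ⊗[W2 p k] M, ∃ m : M, t = (⟨(p : W2 p k), hp'⟩ : I) ⊗ₜ m := by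
        intro t
        induction t using TensorProduct.induction_on with
        | zero => exact ⟨0, by simp⟩
        | tmul i m =>
          obtain ⟨c, hc⟩ := (res_eq_zero_iff_dvd _).1 (hI i.2)
          refine ⟨c • m, ?_⟩
          rw [TensorProduct.tmul_smul, TensorProduct.smul_tmul']
          congr 1
          exact Subtype.ext (by simp [hc, mul_comm])
        | add a b ha hb =>
          obtain ⟨m, rfl⟩ := ha; obtain ⟨m', rfl⟩ := hb
          exact ⟨m + m', (TensorProduct.tmul_add _ _ _).symm⟩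
      obtain ⟨m, rfl⟩ := key z
      have hm : (p : W2 p k) • m = 0 := by
        simpa using congrArg (TensorProduct.lid (W2 p k) M) hz
      obtain ⟨y, rfl⟩ := h m hm
      rw [TensorProduct.tmul_smul, TensorProduct.smul_tmul']
      have h0 : (p : W2 p k) • (⟨(p : W2 p k), hp'⟩ : I) = 0 := Subtype.ext p_mul_p
      rw [h0, TensorProduct.zero_tmul]
  · obtain ⟨x, hxI, hx⟩ := SetLike.not_le_iff_exists.1 hI
    have hI' : I = ⊤ := Ideal.eq_top_of_isUnit_mem I hxI (isUnit_of_res_ne_zero hx)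
    subst hI'
    exact (LinearEquiv.rTensor M
      (Submodule.topEquiv : (⊤ : Submodule (W2 p k) (W2 p k)) ≃ₗ[W2 p k] W2 p k)).injective

lemma flat_iff {M : Type v} [AddCommGroup M] [Module (W2 p k) M] :
    Module.Flat (W2 p k) M ↔ ∀ m : M, (p : W2 p k) • m = 0 → ∃ m' : M, m = (p : W2 p k) • m' :=
  ⟨fun _ _ h => mem_span_p_of_flat' h, fun h => flat_of_ann' h⟩

lemma flat_quotient_iff {B : Type v} [CommRing B] [Algebra (W2 p k) B] [Module.Flat (W2 p k) B] (J : Ideal B) :
    Module.Flat (W2 p k) (B ⧸ J) ↔ Ideal.span {(p : B)} ⊓ J = Ideal.span {(p : B)} * J := by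
  have hsmul : ∀ x : B, (p : W2 p k) • x = (p : B) * x := fun x => by rw [Algebra.smul_def, map_natCast]
  have hmk : ∀ x : B, Ideal.Quotient.mk J ((p : B) * x) = (p : W2 p k) • Ideal.Quotient.mk J x := fun x => by
    rw [map_mul, map_natCast, Algebra.smul_def, map_natCast]
  rw [flat_iff]
  constructor
  · intro h
    refine le_antisymm (fun x hx => ?_) Ideal.mul_le_inf
    obtain ⟨hx1, hx2⟩ := hx
    obtain ⟨y, rfl⟩ := Ideal.mem_span_singleton.1 hx1
    obtain ⟨m', hm'⟩ := h (Ideal.Quotient.mk J y) (by rw [← hmk, Ideal.Quotient.eq_zero_iff_mem]; exact hx2)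
    obtain ⟨z, rfl⟩ := Ideal.Quotient.mk_surjective m'
    rw [← hmk, Ideal.Quotient.eq] at hm'
    have h0 : (p : B) * ((p : B) * z) = 0 := by
      rw [← hsmul, ← hsmul, ← mul_smul, p_mul_p, zero_smul]
    have : (p : B) * y = (p : B) * (y - (p : B) * z) := by rw [mul_sub, h0, sub_zero]
    rw [this]
    exact Ideal.mul_mem_mul (Ideal.mem_span_singleton_self _) hm'
  · intro h m hm
    obtain ⟨y, rfl⟩ := Ideal.Quotient.mk_surjective m
    rw [← hmk, Ideal.Quotient.eq_zero_iff_mem] at hm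
    have hy : (p : B) * y ∈ Ideal.span {(p : B)} * J := h ▸ ⟨Ideal.mem_span_singleton.2 ⟨y, rfl⟩, hm⟩
    obtain ⟨j, hj, hjy⟩ := Ideal.mem_span_singleton_mul.1 hy
    obtain ⟨z, hz⟩ := mem_span_p_of_flat' (M := B) (p := p) (k := k) (x := y - j)
      (by rw [hsmul, mul_sub, hjy, sub_self])
    refine ⟨Ideal.Quotient.mk J z, ?_⟩
    rw [← hmk, Ideal.Quotient.eq, ← hsmul, ← hz]
    simpa using hj

end Groth.Agent.W2Lift
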