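import Groth.Agent.W2Lift.Basic
import Mathlib.RingTheory.EssentialFiniteness
import Mathlib.RingTheory.Localization.Ideal
import Mathlib.RingTheory.Flat.FaithfullyFlat.Algebra
import Mathlib.RingTheory.Polynomial.Basic

set_option autoImplicit false
set_option linter.unusedSectionVars false

open scoped TensorProduct

namespace Groth.Agent.W2Lift

universe u

open FrobAlg (W2 res)

/-- a linear system over `A` solvable over a faithfully flat algebra is solvable -/
lemma exists_solution_of_faithfullyFlat {A B : Type u} [CommRing A] [CommRing B] [Algebra A B]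
    [Module.FaithfullyFlat A B] {s m : ℕ} (a : Fin s → Fin m → A) (y : Fin s → A) (v : Fin m → B)
    (hv : ∀ t, ∑ i, algebraMap A B (a t i) * v i = algebraMap A B (y t)) :
    ∃ u : Fin m → A, ∀ t, ∑ i, a t i * u i = y t := by
  classical
  let N : Submodule A (Fin s → A) := Submodule.span A (Set.range fun i t => a t i)
  let e : Fin s → ((Fin s → A) ⧸ N) := fun t => Submodule.Quotient.mk (Pi.single t 1)
  have hq : ∀ w : Fin s → A, (Submodule.Quotient.mk w : (Fin s → A) ⧸ N) = ∑ t, w t • e t := by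
    intro w
    conv_lhs => rw [pi_eq_sum_univ' w]
    rw [show (Submodule.Quotient.mk (∑ t, w t • Pi.single t (1 : A)) : (Fin s → A) ⧸ N) =
      N.mkQ (∑ t, w t • Pi.single t 1) from rfl, map_sum]
    simp [e]
  have h0 : (1 : B) ⊗ₜ[A] (Submodule.Quotient.mk y : (Fin s → A) ⧸ N) = 0 := by
    calc (1 : B) ⊗ₜ[A] (Submodule.Quotient.mk y : (Fin s → A) ⧸ N)
        = ∑ t, (algebraMap A B (y t)) ⊗ₜ[A] e t := by
          rw [hq, TensorProduct.tmul_sum]
          exact Finset.sum_congr rfl fun t _ => by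
            rw [Algebra.algebraMap_eq_smul_one, TensorProduct.smul_tmul]
      _ = ∑ t, ∑ i, v i ⊗ₜ[A] (a t i • e t) := by
          refine Finset.sum_congr rfl fun t _ => ?_
          rw [← hv t, TensorProduct.sum_tmul]
          exact Finset.sum_congr rfl fun i _ => by
            rw [← Algebra.smul_def, TensorProduct.smul_tmul]
      _ = ∑ i, v i ⊗ₜ[A] (Submodule.Quotient.mk (fun t => a t i) : (Fin s → A) ⧸ N) := by
          rw [Finset.sum_comm]
          exact Finset.sum_congr rfl fun i _ => by rw [hq, TensorProduct.tmul_sum]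
      _ = 0 := by
          refine Finset.sum_eq_zero fun i _ => ?_
          rw [(Submodule.Quotient.mk_eq_zero N).2 (Submodule.subset_span ⟨i, rfl⟩),
            TensorProduct.tmul_zero]
  have hy : y ∈ N := (Submodule.Quotient.mk_eq_zero N).1
    (Module.FaithfullyFlat.tensorProduct_mk_injective (A := A) (B := B) ((Fin s → A) ⧸ N)
      (by rw [TensorProduct.mk_apply, h0, map_zero]))
  obtain ⟨u, hu⟩ := (Submodule.mem_span_range_iff_exists_fun A).1 hy
  refine ⟨u, fun t => ?_⟩
  have := congrFun hu t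
  rw [Finset.sum_apply] at this
  rw [← this]
  exact Finset.sum_congr rfl fun i _ => by simp [mul_comm]

variable {p : ℕ} [hp : Fact p.Prime] {k : Type u} [Field k] [CharP k p] [PerfectRing k p]

lemma poly_p_dvd_of_p_mul {σ : Type u} (f : MvPolynomial σ (W2 p k))
    (h : (p : MvPolynomial σ (W2 p k)) * f = 0) : (p : MvPolynomial σ (W2 p k)) ∣ f := by
  rw [← map_natCast MvPolynomial.C, MvPolynomial.C_dvd_iff_dvd_coeff]
  intro d
  refine (res_eq_zero_iff_dvd _).1 (res_eq_zero_of_p_mul ?_)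
  have := congrArg (MvPolynomial.coeff d) h
  rwa [← map_natCast MvPolynomial.C, MvPolynomial.coeff_C_mul, MvPolynomial.coeff_zero] at this

variable {A B : Type u} [CommRing A] [CommRing B] [Algebra k A] [Algebra k B] [Algebra A B]
  [IsScalarTower k A B]

set_option maxHeartbeats 1000000 in
lemma isW2Liftable_of_faithfullyFlat [Algebra.EssFiniteType k A] [Module.FaithfullyFlat A B]
    (hB : FrobAlg.IsW2Liftable p k B) : FrobAlg.IsW2Liftable p k A := by
  classical
  obtain ⟨B', _, ιB, πB, hB⟩ := hB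
  obtain ⟨σ, hσ⟩ := (Algebra.essFiniteType_iff k A).1 inferInstance
  let P₀ := MvPolynomial {x // x ∈ σ} (W2 p k)
  let θ₀ : P₀ →+* A :=
    MvPolynomial.eval₂Hom ((algebraMap k A).comp (res p k)) (fun x => (x : A))
  have hadj : ∀ a ∈ Algebra.adjoin k (σ : Set A), ∃ f, θ₀ f = a := by
    intro a ha
    induction ha using Algebra.adjoin_induction with
    | mem x hx => exact ⟨MvPolynomial.X ⟨x, hx⟩, MvPolynomial.eval₂Hom_X' _ _ _⟩
    | algebraMap c =>
      obtain ⟨w, rfl⟩ := res_surjective (p := p) c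
      exact ⟨MvPolynomial.C w, MvPolynomial.eval₂Hom_C _ _ _⟩
    | add x y _ _ hx hy =>
      obtain ⟨f, rfl⟩ := hx; obtain ⟨g, rfl⟩ := hy; exact ⟨f + g, map_add _ _ _⟩
    | mul x y _ _ hx hy =>
      obtain ⟨f, rfl⟩ := hx; obtain ⟨g, rfl⟩ := hy; exact ⟨f * g, map_mul _ _ _⟩
  let S : Submonoid P₀ := (IsUnit.submonoid A).comap θ₀
  let P := Localization S
  haveI : IsNoetherianRing P := IsLocalization.isNoetherianRing S P inferInstance
  let θ : P →+* A := IsLocalization.lift (M := S) (g := θ₀) (fun y => y.2)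
  have hθ₀ : ∀ f, θ (algebraMap P₀ P f) = θ₀ f := IsLocalization.lift_eq _
  have hθs : Function.Surjective θ := by
    intro a
    obtain ⟨t, ht, htu, hat⟩ := hσ a
    obtain ⟨f, hf⟩ := hadj _ hat
    obtain ⟨g, hg⟩ := hadj _ ht
    have hgS : g ∈ S := show IsUnit (θ₀ g) by rw [hg]; exact htu
    refine ⟨IsLocalization.mk' P f (⟨g, hgS⟩ : S), ?_⟩
    refine (IsLocalization.lift_mk'_spec (M := S) _ _ _ _).2 ?_
    rw [hf, hg, mul_comm]
  have hθp : θ (p : P) = 0 := by
    rw [← map_natCast (algebraMap P₀ P), hθ₀, ← map_natCast MvPolynomial.C,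
      MvPolynomial.eval₂Hom_C, RingHom.comp_apply, coeff0_natCast_p, map_zero]
  have hPp : ∀ x : P, (p : P) * x = 0 → (p : P) ∣ x := by
    intro x hx
    obtain ⟨f, s, rfl⟩ := IsLocalization.exists_mk'_eq S x
    rw [← map_natCast (algebraMap P₀ P), IsLocalization.mul_mk'_eq_mk'_of_mul,
      IsLocalization.mk'_eq_zero_iff] at hx
    obtain ⟨c, hc⟩ := hx
    have : (p : P₀) * ((c : P₀) * f) = 0 := by rw [← hc]; ring
    obtain ⟨g, hg⟩ := poly_p_dvd_of_p_mul _ this
    refine ⟨IsLocalization.mk' P g (c * s), ?_⟩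
    rw [← map_natCast (algebraMap P₀ P), IsLocalization.mul_mk'_eq_mk'_of_mul,
      IsLocalization.mk'_eq_iff_eq, ← hg, Submonoid.coe_mul]
    congr 1; ring
  -- the map to B'
  choose l hl using fun a : A => hB.surj (algebraMap A B a)
  let ψ₀ : P₀ →+* B' := MvPolynomial.eval₂Hom ιB (fun x => l x)
  have hψ₀ : ∀ f, πB (ψ₀ f) = algebraMap A B (θ₀ f) := by
    intro f
    suffices h : πB.comp ψ₀ = (algebraMap A B).comp θ₀ from RingHom.congr_fun h f
    refine MvPolynomial.ringHom_ext (fun w => ?_) (fun x => ?_)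
    · simp only [RingHom.comp_apply, ψ₀, θ₀, MvPolynomial.eval₂Hom_C]
      rw [← IsScalarTower.algebraMap_apply, ← RingHom.comp_apply, hB.comm, RingHom.comp_apply]
    · simp [ψ₀, θ₀, hl]
  let ψ : P →+* B' := IsLocalization.lift (M := S) (g := ψ₀)
    (fun y => lift_isUnit hB (by rw [hψ₀]; exact y.2.map _))
  have hψ : ∀ x, πB (ψ x) = algebraMap A B (θ x) := by
    intro x
    suffices h : πB.comp ψ = (algebraMap A B).comp θ from RingHom.congr_fun h x
    refine IsLocalization.ringHom_ext S (RingHom.ext fun f => ?_)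
    simp [ψ, hθ₀, hψ₀]
  -- generators and relations
  obtain ⟨m, f, hf⟩ := Submodule.fg_iff_exists_fin_generating_family.1
    ((isNoetherianRing_iff_ideal_fg P).1 ‹_› (RingHom.ker θ))
  let R : Submodule P (Fin m → P) :=
    Submodule.comap (Fintype.linearCombination P f) (Ideal.span {(p : P)})
  obtain ⟨s, ρ, hρ⟩ := Submodule.fg_iff_exists_fin_generating_family.1
    (IsNoetherian.noetherian R)
  have hρR : ∀ t, ∃ h, ∑ i, ρ t i * f i = (p : P) * h := by
    intro t
    have hmem : ρ t ∈ R := hρ ▸ Submodule.subset_span ⟨t, rfl⟩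
    obtain ⟨c, hc⟩ := Ideal.mem_span_singleton'.1 hmem
    refine ⟨c, ?_⟩
    rw [mul_comm, hc, Fintype.linearCombination_apply]
    rfl
  choose h hh using hρR
  have hfθ : ∀ i, θ (f i) = 0 := fun i =>
    RingHom.mem_ker.1 (hf ▸ Submodule.subset_span ⟨i, rfl⟩)
  have hv : ∀ i, ∃ v, ψ (f i) = (p : B') * v := fun i =>
    (lift_ker_iff hB _).1 (by rw [hψ, hfθ, map_zero])
  choose v hv using hv
  have hsys : ∀ t, ∑ i, algebraMap A B (θ (ρ t i)) * πB (v i) = algebraMap A B (θ (h t)) := by
    intro t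
    have h1 : (p : B') * ((∑ i, ψ (ρ t i) * v i) - ψ (h t)) = 0 := by
      rw [mul_sub, Finset.mul_sum, ← map_natCast ψ, ← map_mul, ← hh t, map_sum, sub_eq_zero]
      exact Finset.sum_congr rfl fun i _ => by rw [map_mul, hv, map_natCast]; ring
    have h2 := (lift_p_mul_iff hB _).1 h1
    rw [map_sub, map_sum, sub_eq_zero, hψ] at h2
    rw [← h2]
    exact Finset.sum_congr rfl fun i _ => by rw [map_mul, hψ]
  obtain ⟨w, hw⟩ := exists_solution_of_faithfullyFlat _ _ _ hsys
  choose g hg using fun i => hθs (w i)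
  let J : Ideal P := Ideal.span (Set.range fun i => f i - (p : P) * g i)
  have hJθ : ∀ x ∈ J, θ x = 0 := by
    intro x hx
    have : J ≤ RingHom.ker θ := Ideal.span_le.2 (by
      rintro _ ⟨i, rfl⟩
      change θ _ = 0
      rw [map_sub, map_mul, hfθ, hθp, zero_mul, sub_zero])
    exact this hx
  let π : P ⧸ J →+* A := Ideal.Quotient.lift J θ hJθ
  refine ⟨P ⧸ J, inferInstance,
    (Ideal.Quotient.mk J).comp ((algebraMap P₀ P).comp MvPolynomial.C), π,
    isLift_of _ _ (Ideal.Quotient.lift_surjective_of_surjective _ _ hθs) ?_ ?_ ?_⟩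
  · refine RingHom.ext fun x => ?_
    change θ (algebraMap P₀ P (MvPolynomial.C x)) = _
    rw [hθ₀, MvPolynomial.eval₂Hom_C]
  · intro x hx
    obtain ⟨x, rfl⟩ := Ideal.Quotient.mk_surjective x
    have hxK : x ∈ RingHom.ker θ := hx
    rw [← hf] at hxK
    obtain ⟨c, hc⟩ := (Submodule.mem_span_range_iff_exists_fun P).1 hxK
    refine ⟨Ideal.Quotient.mk J (∑ i, c i * g i), ?_⟩
    rw [← map_natCast (Ideal.Quotient.mk J), ← map_mul, Ideal.Quotient.mk_eq_mk_iff_sub_mem, ← hc,
      Finset.mul_sum, ← Finset.sum_sub_distrib]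
    refine Ideal.sum_mem _ fun i _ => ?_
    rw [show c i • f i - (p : P) * (c i * g i) = c i * (f i - (p : P) * g i) by
      rw [smul_eq_mul]; ring]
    exact Ideal.mul_mem_left _ _ (Ideal.subset_span ⟨i, rfl⟩)
  · intro x hx
    obtain ⟨x, rfl⟩ := Ideal.Quotient.mk_surjective x
    change θ x = 0
    rw [← map_natCast (Ideal.Quotient.mk J), ← map_mul, Ideal.Quotient.eq_zero_iff_mem] at hx
    obtain ⟨c, hc⟩ := (Submodule.mem_span_range_iff_exists_fun P).1 hx
    have hc1 : ∑ i, c i * f i = (p : P) * (x + ∑ i, c i * g i) := by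
      rw [mul_add, ← hc, Finset.mul_sum, ← Finset.sum_add_distrib]
      exact Finset.sum_congr rfl fun i _ => by rw [smul_eq_mul]; ring
    have hcR : c ∈ R := by
      refine Ideal.mem_span_singleton'.2 ⟨x + ∑ i, c i * g i, ?_⟩
      rw [mul_comm, ← hc1, Fintype.linearCombination_apply]
      rfl
    rw [← hρ] at hcR
    obtain ⟨d, hd⟩ := (Submodule.mem_span_range_iff_exists_fun P).1 hcR
    have hci : ∀ i, c i = ∑ t, d t * ρ t i := fun i => by
      rw [← hd, Finset.sum_apply]; rfl
    have e1 : ∑ i, c i * f i = (p : P) * ∑ t, d t * h t := by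
      simp only [hci, Finset.sum_mul]
      rw [Finset.sum_comm, Finset.mul_sum]
      refine Finset.sum_congr rfl fun t _ => ?_
      rw [mul_left_comm, ← hh t, Finset.mul_sum]
      exact Finset.sum_congr rfl fun i _ => mul_assoc _ _ _
    obtain ⟨e, he⟩ := hPp (x + ∑ i, c i * g i - ∑ t, d t * h t)
      (by rw [mul_sub, ← hc1, e1, sub_self])
    have h3 := congrArg θ he
    rw [map_mul, hθp, zero_mul, map_sub, map_add, map_sum, map_sum, sub_eq_zero] at h3
    have h4 : ∑ i, θ (c i * g i) = ∑ t, θ (d t * h t) := by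
      simp only [map_mul, hci, map_sum, Finset.sum_mul, hg]
      rw [Finset.sum_comm]
      exact Finset.sum_congr rfl fun t _ => by
        rw [← hw t, Finset.mul_sum]
        exact Finset.sum_congr rfl fun i _ => mul_assoc _ _ _
    rw [← h4] at h3
    simpa using h3

end Groth.Agent.W2Lift
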