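import Groth.Agent.W2Lift.Basic
import Groth.Agent.W2Lift.Descent
import Groth.Agent.W2Lift.Flat15
import Mathlib.Algebra.MvPolynomial.PDeriv
import Mathlib.Algebra.CharP.Lemmas
import Mathlib.RingTheory.Regular.RegularSequence

/-! Frobenius lifts of presented algebras over `W₂` and Frobenius residues. -/

set_option autoImplicit false
set_option maxHeartbeats 1000000

universe u

namespace Groth.Agent.W2Lift.Residue

open MvPolynomial
open FrobAlg (W2 res sigma polyFrob)

variable {p : ℕ} [hp : Fact p.Prime] {k : Type u} [Field k] [CharP k p] [PerfectRing k p] {n : ℕ}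

local notation "R'" => MvPolynomial (Fin n) (W2 p k)

omit [CharP k p] [PerfectRing k p] in
lemma map_res_apply_p [CharP k p] : MvPolynomial.map (res p k) (p : R') = 0 := by
  rw [map_natCast, ← map_natCast (C (R := k) (σ := Fin n)), CharP.cast_eq_zero, map_zero]

lemma poly_p_sq : (p : R') * p = 0 := by
  rw [← map_natCast (C (R := W2 p k) (σ := Fin n)), ← map_mul, p_mul_p, map_zero]

lemma map_res_eq_zero_iff (x : R') : MvPolynomial.map (res p k) x = 0 ↔ (p : R') ∣ x := by
  constructor
  · intro h
    rw [← map_natCast (C (R := W2 p k) (σ := Fin n)), MvPolynomial.C_dvd_iff_dvd_coeff]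
    intro d
    refine (res_eq_zero_iff_dvd _).1 ?_
    have := congrArg (MvPolynomial.coeff d) h
    rwa [coeff_map, coeff_zero] at this
  · rintro ⟨c, rfl⟩
    rw [map_mul, map_res_apply_p, zero_mul]

lemma p_dvd_of_p_mul {x : R'} (h : (p : R') * x = 0) : (p : R') ∣ x := by
  rw [← map_natCast (C (R := W2 p k) (σ := Fin n)), MvPolynomial.C_dvd_iff_dvd_coeff]
  intro d
  refine (res_eq_zero_iff_dvd _).1 (res_eq_zero_of_p_mul ?_)
  have h1 := congrArg (MvPolynomial.coeff d) h
  rwa [← map_natCast (C (R := W2 p k) (σ := Fin n)), MvPolynomial.coeff_C_mul, MvPolynomial.coeff_zero] at h1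

lemma p_mul_eq_of_map_eq {x y : R'} (h : MvPolynomial.map (res p k) x = MvPolynomial.map (res p k) y) :
    (p : R') * x = p * y := by
  obtain ⟨c, hc⟩ := (map_res_eq_zero_iff (x - y)).1 (by rw [map_sub, h, sub_self])
  rw [← sub_eq_zero, ← mul_sub, hc, ← mul_assoc, poly_p_sq, zero_mul]

lemma map_res_polyFrob (f : R') :
    MvPolynomial.map (res p k) (polyFrob p k (Fin n) f) = MvPolynomial.map (res p k) f ^ p := by
  haveI : ExpChar k p := ExpChar.prime hp.out
  suffices h : (MvPolynomial.map (res p k)).comp (polyFrob p k (Fin n)) =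
      (frobenius (MvPolynomial (Fin n) k) p).comp (MvPolynomial.map (res p k)) from RingHom.congr_fun h f
  refine MvPolynomial.ringHom_ext (fun a => ?_) (fun i => ?_)
  · obtain ⟨A, rfl⟩ := WittVector.truncate_surjective p 2 k a
    simp only [polyFrob, RingHom.comp_apply, eval₂Hom_C, map_C, frobenius_def, ← map_pow]
    congr 1
    simp only [FrobAlg.res_apply, ← map_pow]
    simp only [sigma, WittGrp.frob, RingHom.coe_mk, MonoidHom.coe_mk, OneHom.coe_mk, WittGrp.frobFun,
      TruncatedWittVector.coeff_mk, WittVector.coeff_truncate]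
    exact (map_pow WittVector.constantCoeff A p).symm
  · simp [polyFrob, frobenius_def]

lemma p_mul_add_pow (a b : R') : (p : R') * (a + b) ^ p = p * a ^ p + p * b ^ p := by
  obtain ⟨r, hr⟩ := exists_add_pow_prime_eq hp.out a b
  rw [hr, mul_add, mul_add, show (p : R') * ((p : R') * a * b * r) = ((p : R') * p) * (a * b * r) by ring, poly_p_sq,
    zero_mul, add_zero]

/-- the Frobenius lift with `x_j ↦ x_j^p + p h_j` -/
noncomputable def psi (h : Fin n → R') : R' →+* R' :=
  eval₂Hom (MvPolynomial.C.comp (sigma p k)) fun j => X j ^ p + (p : R') * h j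

theorem psi_eq (h : Fin n → R') (f : R') :
    psi h f = polyFrob p k (Fin n) f + (p : R') * ∑ j, pderiv j f ^ p * h j := by
  induction f using MvPolynomial.induction_on with
  | C a => simp [psi, polyFrob, zero_pow hp.out.ne_zero]
  | add f g hf hg =>
    rw [map_add, map_add, hf, hg]
    have : (p : R') * ∑ j, pderiv j (f + g) ^ p * h j =
        (p : R') * ∑ j, pderiv j f ^ p * h j + (p : R') * ∑ j, pderiv j g ^ p * h j := by
      rw [Finset.mul_sum, Finset.mul_sum, Finset.mul_sum, ← Finset.sum_add_distrib]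
      refine Finset.sum_congr rfl fun j _ => ?_
      rw [map_add, ← mul_assoc, p_mul_add_pow, add_mul, mul_assoc, mul_assoc]
    rw [this]
    ring
  | mul_X f i hf =>
    rw [map_mul, map_mul, hf]
    have hX : psi h (X i) = X i ^ p + (p : R') * h i := by simp [psi]
    have hX' : polyFrob p k (Fin n) (X i) = X i ^ p := by simp [polyFrob]
    rw [hX, hX']
    have hF : (p : R') * polyFrob p k (Fin n) f = p * f ^ p :=
      p_mul_eq_of_map_eq (by rw [map_res_polyFrob, map_pow])
    have : (p : R') * ∑ j, pderiv j (f * X i) ^ p * h j =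
        (p : R') * (∑ j, pderiv j f ^ p * h j) * X i ^ p + (p : R') * f ^ p * h i := by
      rw [Finset.mul_sum, Finset.mul_sum, Finset.sum_mul,
        show (p : R') * f ^ p * h i = ∑ j, if i = j then (p : R') * f ^ p * h j else 0 by
          rw [Finset.sum_ite_eq, if_pos (Finset.mem_univ _)], ← Finset.sum_add_distrib]
      refine Finset.sum_congr rfl fun j _ => ?_
      rw [pderiv_mul, pderiv_X, ← mul_assoc, p_mul_add_pow]
      by_cases hij : i = j
      · subst hij
        simp [mul_pow]
        ring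
      · rw [if_neg hij]
        simp [Pi.single_eq_of_ne hij, zero_pow hp.out.ne_zero, mul_pow]
        ring
    rw [this]
    linear_combination (h i) * hF + (∑ j, pderiv j f ^ p * h j) * h i * poly_p_sq (p := p) (k := k) (n := n)

lemma map_res_psi (h : Fin n → R') (f : R') :
    MvPolynomial.map (res p k) (psi h f) = MvPolynomial.map (res p k) f ^ p := by
  rw [psi_eq, map_add, map_mul, map_res_apply_p, zero_mul, add_zero, map_res_polyFrob]

section Criterion

variable {m : ℕ} (fl : Fin m → MvPolynomial (Fin n) (W2 p k))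

omit [CharP k p] [PerfectRing k p] in
lemma rbar_mk (x : R') : (Ideal.quotientMap ((Ideal.span (Set.range fl)).map (MvPolynomial.map (res p k))) (MvPolynomial.map (res p k)) Ideal.le_comap_map) (Ideal.Quotient.mk (Ideal.span (Set.range fl)) x) =
    Ideal.Quotient.mk ((Ideal.span (Set.range fl)).map (MvPolynomial.map (res p k))) (MvPolynomial.map (res p k) x) :=
  Ideal.quotientMap_mk

lemma rbar_eq_zero {x : R'} (h : (Ideal.quotientMap ((Ideal.span (Set.range fl)).map (MvPolynomial.map (res p k))) (MvPolynomial.map (res p k)) Ideal.le_comap_map) (Ideal.Quotient.mk (Ideal.span (Set.range fl)) x) = 0) :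
    ∃ y, x - (p : R') * y ∈ (Ideal.span (Set.range fl)) := by
  rw [rbar_mk, Ideal.Quotient.eq_zero_iff_mem,
    Ideal.mem_map_iff_of_surjective _ (MvPolynomial.map_surjective _ res_surjective)] at h
  obtain ⟨j, hj, hjx⟩ := h
  obtain ⟨y, hy⟩ := (map_res_eq_zero_iff (x - j)).1 (by rw [map_sub, hjx, sub_self])
  exact ⟨y, by rwa [← hy, sub_sub_cancel]⟩

/-- `pR' ∩ (Ideal.span (Set.range fl)) = p(Ideal.span (Set.range fl))` in the flat case -/
lemma mem_p_mul_of_flat (hflat : ((Ideal.Quotient.mk (Ideal.span (Set.range fl))).comp (C : W2 p k →+* R')).Flat) {x : R'}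
    (hx : (p : R') * x ∈ (Ideal.span (Set.range fl))) : (p : R') * x ∈ Ideal.span {(p : R')} * (Ideal.span (Set.range fl)) := by
  have hfl : Module.Flat (W2 p k) (R' ⧸ (Ideal.span (Set.range fl))) := RingHom.flat_algebraMap_iff.1 hflat
  rw [← (flat_quotient_iff (Ideal.span (Set.range fl))).1 hfl]
  exact ⟨Ideal.mem_span_singleton.2 ⟨x, rfl⟩, hx⟩

theorem psi_map_le {h : Fin n → R'}
    (hc : ∀ i, polyFrob p k (Fin n) (fl i) - fl i ^ p + (p : R') * ∑ j, pderiv j (fl i) ^ p * h j ∈ (Ideal.span (Set.range fl))) :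
    (Ideal.span (Set.range fl)) ≤ Ideal.comap (psi h) (Ideal.span (Set.range fl)) := by
  rw [Ideal.span_le]
  rintro _ ⟨i, rfl⟩
  rw [SetLike.mem_coe, Ideal.mem_comap, psi_eq]
  have := Ideal.add_mem _ (hc i) (Ideal.pow_mem_of_mem _ (Ideal.subset_span ⟨i, rfl⟩ : fl i ∈ (Ideal.span (Set.range fl))) p hp.out.pos)
  convert this using 1
  ring

/-- Frobenius of the reduction lifts iff the residues vanish -/
theorem lifts_iff (hflat : ((Ideal.Quotient.mk (Ideal.span (Set.range fl))).comp (C : W2 p k →+* R')).Flat) :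
    (∃ Φ : (R' ⧸ (Ideal.span (Set.range fl))) →+* (R' ⧸ (Ideal.span (Set.range fl))),
      Φ.comp ((Ideal.Quotient.mk (Ideal.span (Set.range fl))).comp C) = ((Ideal.Quotient.mk (Ideal.span (Set.range fl))).comp C).comp (sigma p k) ∧
      ∀ b, (Ideal.quotientMap ((Ideal.span (Set.range fl)).map (MvPolynomial.map (res p k))) (MvPolynomial.map (res p k)) Ideal.le_comap_map) (Φ b) = (Ideal.quotientMap ((Ideal.span (Set.range fl)).map (MvPolynomial.map (res p k))) (MvPolynomial.map (res p k)) Ideal.le_comap_map) b ^ p) ↔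
    ∃ h : Fin n → R', ∀ i,
      polyFrob p k (Fin n) (fl i) - fl i ^ p - (p : R') * ∑ j, pderiv j (fl i) ^ p * h j
        ∈ Ideal.span {(p : R')} * (Ideal.span (Set.range fl)) := by
  constructor
  · rintro ⟨Φ, hsemi, hred⟩
    have : ∀ j, ∃ y, Φ (Ideal.Quotient.mk (Ideal.span (Set.range fl)) (X j)) = Ideal.Quotient.mk (Ideal.span (Set.range fl)) (X j ^ p + (p : R') * y) := by
      intro j
      obtain ⟨z, hz⟩ := Ideal.Quotient.mk_surjective (Φ (Ideal.Quotient.mk (Ideal.span (Set.range fl)) (X j)))
      obtain ⟨y, hy⟩ := rbar_eq_zero fl (x := z - X j ^ p) (by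
        rw [map_sub, map_sub, hz, hred, map_pow, map_pow, sub_self])
      refine ⟨y, ?_⟩
      rw [← hz, Ideal.Quotient.eq]
      rwa [sub_sub] at hy
    choose y hy using this
    have hcomp : Φ.comp (Ideal.Quotient.mk (Ideal.span (Set.range fl))) = (Ideal.Quotient.mk (Ideal.span (Set.range fl))).comp (psi y) := by
      refine MvPolynomial.ringHom_ext (fun a => ?_) (fun j => ?_)
      · simp only [RingHom.comp_apply, psi, eval₂Hom_C]
        exact RingHom.congr_fun hsemi a
      · simp [psi, hy j]
    refine ⟨fun j => -y j, fun i => ?_⟩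
    have hmem : psi y (fl i) ∈ (Ideal.span (Set.range fl)) := by
      rw [← Ideal.Quotient.eq_zero_iff_mem, ← RingHom.comp_apply, ← hcomp, RingHom.comp_apply,
        Ideal.Quotient.eq_zero_iff_mem.2 (Ideal.subset_span ⟨i, rfl⟩ : fl i ∈ Ideal.span (Set.range fl)), map_zero]
    obtain ⟨c, hc⟩ := (map_res_eq_zero_iff (polyFrob p k (Fin n) (fl i) - fl i ^ p)).1
      (by rw [map_sub, map_res_polyFrob, map_pow, sub_self])
    have hx : (p : R') * (c + ∑ j, pderiv j (fl i) ^ p * y j) ∈ (Ideal.span (Set.range fl)) := by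
      have := Ideal.sub_mem _ hmem (Ideal.pow_mem_of_mem _ (Ideal.subset_span ⟨i, rfl⟩ : fl i ∈ (Ideal.span (Set.range fl))) p hp.out.pos)
      rw [psi_eq] at this
      convert this using 1
      linear_combination -hc
    convert mem_p_mul_of_flat fl hflat hx using 1
    try simp only [mul_neg, Finset.sum_neg_distrib]
    linear_combination hc
  · rintro ⟨h, hh⟩
    have hle := psi_map_le fl (h := fun j => -h j) fun i => by
      convert Ideal.mul_le_right (hh i) using 1
      try simp only [mul_neg, Finset.sum_neg_distrib]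
      ring
    refine ⟨Ideal.quotientMap (Ideal.span (Set.range fl)) (psi fun j => -h j) hle, RingHom.ext fun a => ?_, fun b => ?_⟩
    · simp [psi]
    · obtain ⟨z, rfl⟩ := Ideal.Quotient.mk_surjective b
      rw [Ideal.quotientMap_mk, rbar_mk, rbar_mk, map_res_psi, map_pow]

end Criterion

section CI

variable {m : ℕ}

/-- lifts of a regular sequence cut out a flat algebra -/
theorem exists_sub_mem_of_regular (f : Fin m → MvPolynomial (Fin n) k) (f' : Fin m → R')
    (hf : ∀ i, MvPolynomial.map (res p k) (f' i) = f i)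
    (hreg : RingTheory.Sequence.IsWeaklyRegular (MvPolynomial (Fin n) k) (List.ofFn f)) :
    ∀ (i : ℕ), i ≤ m → ∀ y : R', (p : R') * y ∈ Ideal.ofList ((List.ofFn f').take i) →
      ∃ w, y - (p : R') * w ∈ Ideal.ofList ((List.ofFn f').take i) := by
  intro i
  induction i with
  | zero =>
    intro _ y hy
    rw [List.take_zero, Ideal.ofList_nil, Ideal.mem_bot] at hy
    obtain ⟨w, hw⟩ := p_dvd_of_p_mul hy
    exact ⟨w, by rw [hw, sub_self]; exact Ideal.zero_mem _⟩
  | succ i ih =>
    intro hi y hy
    have hlt : i < (List.ofFn f').length := by rw [List.length_ofFn]; omega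
    have hsplit : Ideal.ofList ((List.ofFn f').take (i + 1)) =
        Ideal.ofList ((List.ofFn f').take i) ⊔ Ideal.span {f' ⟨i, by omega⟩} := by
      rw [List.take_succ_eq_append_getElem hlt, Ideal.ofList_append, Ideal.ofList_singleton, List.getElem_ofFn]
    rw [hsplit] at hy ⊢
    obtain ⟨b, hb, c, hc, hbc⟩ := Submodule.mem_sup.1 hy
    obtain ⟨a, rfl⟩ := Ideal.mem_span_singleton.1 hc
    have hmap : (Ideal.ofList ((List.ofFn f').take i)).map (MvPolynomial.map (res p k)) =
        Ideal.ofList ((List.ofFn f).take i) := by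
      rw [Ideal.map_ofList, List.map_take, List.map_ofFn]
      congr 3
      exact funext hf
    have h1 : f ⟨i, by omega⟩ * MvPolynomial.map (res p k) a ∈ Ideal.ofList ((List.ofFn f).take i) := by
      have h2 := congrArg (MvPolynomial.map (res p k)) hbc
      rw [map_add, map_mul, map_mul, map_res_apply_p, zero_mul, hf] at h2
      rw [eq_neg_of_add_eq_zero_right h2, ← hmap]
      exact neg_mem (Ideal.mem_map_of_mem _ hb)
    have hlt' : i < (List.ofFn f).length := by rw [List.length_ofFn]; omega
    have h3 : MvPolynomial.map (res p k) a ∈ Ideal.ofList ((List.ofFn f).take i) := by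
      have h4 := hreg.regular_mod_prev i hlt'
      rw [List.getElem_ofFn, isSMulRegular_quotient_iff_mem_of_smul_mem] at h4
      have h5 := h4 (MvPolynomial.map (res p k) a) (by simpa using h1)
      simpa using h5
    rw [← hmap, Ideal.mem_map_iff_of_surjective _ (MvPolynomial.map_surjective _ res_surjective)] at h3
    obtain ⟨d, hd, hda⟩ := h3
    obtain ⟨e, he⟩ := (map_res_eq_zero_iff (a - d)).1 (by rw [map_sub, hda, sub_self])
    obtain ⟨w, hw⟩ := ih (by omega) (y - f' ⟨i, by omega⟩ * e) (by
      have : (p : R') * (y - f' ⟨i, by omega⟩ * e) = b + f' ⟨i, by omega⟩ * d := by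
        linear_combination -hbc + (f' ⟨i, by omega⟩) * he
      rw [this]
      exact Ideal.add_mem _ hb (Ideal.mul_mem_left _ _ hd))
    refine ⟨w, ?_⟩
    rw [show y - (p : R') * w = (y - f' ⟨i, by omega⟩ * e - (p : R') * w) + f' ⟨i, by omega⟩ * e by ring]
    exact Submodule.add_mem_sup hw (Ideal.mem_span_singleton.2 (Dvd.intro e rfl))

theorem ofList_ofFn {R : Type*} [CommRing R] (g : Fin m → R) : Ideal.ofList (List.ofFn g) = Ideal.span (Set.range g) := by
  simp [Ideal.ofList, List.mem_ofFn, Set.range]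

theorem flat_of_regular (f : Fin m → MvPolynomial (Fin n) k) (f' : Fin m → R')
    (hf : ∀ i, MvPolynomial.map (res p k) (f' i) = f i)
    (hreg : RingTheory.Sequence.IsWeaklyRegular (MvPolynomial (Fin n) k) (List.ofFn f)) :
    ((Ideal.Quotient.mk (Ideal.span (Set.range f'))).comp (C : W2 p k →+* R')).Flat := by
  refine (RingHom.flat_algebraMap_iff (R := W2 p k) (S := R' ⧸ Ideal.span (Set.range f'))).2 ?_
  rw [flat_iff]
  intro x hx
  obtain ⟨y, rfl⟩ := Ideal.Quotient.mk_surjective x
  rw [Algebra.smul_def, map_natCast, ← map_natCast (Ideal.Quotient.mk (Ideal.span (Set.range f'))), ← map_mul,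
    Ideal.Quotient.eq_zero_iff_mem] at hx
  obtain ⟨w, hw⟩ := exists_sub_mem_of_regular f f' hf hreg m le_rfl y (by
    rwa [List.take_of_length_le (by rw [List.length_ofFn]), ofList_ofFn])
  rw [List.take_of_length_le (by rw [List.length_ofFn]), ofList_ofFn] at hw
  refine ⟨Ideal.Quotient.mk _ w, ?_⟩
  rw [Algebra.smul_def, map_natCast, ← map_natCast (Ideal.Quotient.mk (Ideal.span (Set.range f'))), ← map_mul,
    Ideal.Quotient.eq]
  exact hw

/-- the criterion for complete intersections -/
theorem isFLiftable_iff (f : Fin m → MvPolynomial (Fin n) k)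
    (hreg : RingTheory.Sequence.IsWeaklyRegular (MvPolynomial (Fin n) k) (List.ofFn f)) :
    FrobAlg.IsFLiftable p k (MvPolynomial (Fin n) k ⧸ Ideal.span (Set.range f)) ↔
    ∃ (f' : Fin m → R') (h : Fin n → R'),
      (∀ i, MvPolynomial.map (res p k) (f' i) = f i) ∧
      ∀ i, polyFrob p k (Fin n) (f' i) - f' i ^ p - (p : R') * ∑ j, pderiv j (f' i) ^ p * h j
        ∈ Ideal.span {(p : R')} * Ideal.span (Set.range f') := by
  let q := Ideal.Quotient.mk (Ideal.span (Set.range f))
  constructor
  · rintro ⟨B, _, ι, π, Φ, hB⟩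
    choose Y hY using fun j => hB.surj (q (X j))
    let α : R' →+* B := eval₂Hom ι Y
    have hπα : ∀ x, π (α x) = q (MvPolynomial.map (res p k) x) := by
      suffices h : π.comp α = q.comp (MvPolynomial.map (res p k)) from RingHom.congr_fun h
      refine MvPolynomial.ringHom_ext (fun a => ?_) (fun j => by simp [α, hY])
      simp only [α, RingHom.comp_apply, eval₂Hom_C, map_C]
      exact RingHom.congr_fun hB.comm a
    have hα : Function.Surjective α := by
      intro b
      obtain ⟨x, hx⟩ := Ideal.Quotient.mk_surjective (π b)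
      obtain ⟨x', rfl⟩ := MvPolynomial.map_surjective _ res_surjective x
      obtain ⟨c, hc⟩ := (lift_ker_iff hB.toIsLift (b - α x')).1 (by rw [map_sub, hπα, hx, sub_self])
      obtain ⟨y, hy⟩ := Ideal.Quotient.mk_surjective (π c)
      obtain ⟨y', rfl⟩ := MvPolynomial.map_surjective _ res_surjective y
      refine ⟨x' + (p : R') * y', ?_⟩
      rw [map_add, map_mul, map_natCast, lift_p_mul_congr hB.toIsLift (b := α y') (b' := c) (by rw [hπα, hy]),
        ← hc, add_sub_cancel]
    have hex : ∀ i, ∃ g : R', α g = 0 ∧ MvPolynomial.map (res p k) g = f i := by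
      intro i
      obtain ⟨g, hg⟩ := MvPolynomial.map_surjective _ res_surjective (f i)
      obtain ⟨c, hc⟩ := (lift_ker_iff hB.toIsLift (α g)).1
        (by rw [hπα, hg]; exact Ideal.Quotient.eq_zero_iff_mem.2 (Ideal.subset_span ⟨i, rfl⟩))
      obtain ⟨d, rfl⟩ := hα c
      exact ⟨g - (p : R') * d, by rw [map_sub, map_mul, map_natCast, hc, sub_self],
        by rw [map_sub, map_mul, map_res_apply_p, zero_mul, sub_zero, hg]⟩
    choose f' hf'0 hf' using hex
    have hJ : (Ideal.span (Set.range f')).map (MvPolynomial.map (res p k)) = Ideal.span (Set.range f) := by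
      rw [Ideal.map_span, ← Set.range_comp]
      congr 2
      exact funext hf'
    have hker : RingHom.ker α = Ideal.span (Set.range f') := by
      refine le_antisymm (fun x hx => ?_) (Ideal.span_le.2 (by rintro _ ⟨i, rfl⟩; exact hf'0 i))
      have hdec : ∀ x, π (α x) = 0 → ∃ y, x - (p : R') * y ∈ Ideal.span (Set.range f') := by
        intro x hx
        rw [hπα, Ideal.Quotient.eq_zero_iff_mem, ← hJ,
          Ideal.mem_map_iff_of_surjective _ (MvPolynomial.map_surjective _ res_surjective)] at hx
        obtain ⟨j, hj, hjx⟩ := hx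
        obtain ⟨y, hy⟩ := (map_res_eq_zero_iff (x - j)).1 (by rw [map_sub, hjx, sub_self])
        exact ⟨y, by rwa [← hy, sub_sub_cancel]⟩
      have hker0 : ∀ j ∈ Ideal.span (Set.range f'), α j = 0 := fun j hj =>
        (Ideal.span_le.2 (by rintro _ ⟨i, rfl⟩; exact hf'0 i) : Ideal.span (Set.range f') ≤ RingHom.ker α) hj
      obtain ⟨y, hy⟩ := hdec x (by rw [RingHom.mem_ker.1 hx, map_zero])
      have h0 : (p : B) * α y = 0 := by
        have := hker0 _ hy
        rwa [map_sub, RingHom.mem_ker.1 hx, zero_sub, neg_eq_zero, map_mul, map_natCast] at this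
      obtain ⟨z, hz⟩ := hdec y ((lift_p_mul_iff hB.toIsLift _).1 h0)
      have hsum : x = (x - (p : R') * y) + (p : R') * (y - (p : R') * z) := by
        linear_combination z * poly_p_sq (p := p) (k := k) (n := n)
      rw [hsum]
      exact Ideal.add_mem _ hy (Ideal.mul_mem_left _ _ hz)
    let e : (R' ⧸ Ideal.span (Set.range f')) ≃+* B :=
      (Ideal.quotEquivOfEq hker.symm).trans (RingHom.quotientKerEquivOfSurjective hα)
    have he : ∀ x, e (Ideal.Quotient.mk _ x) = α x := fun x => rfl
    obtain ⟨h, hh⟩ := (lifts_iff f' (flat_of_regular f f' hf' hreg)).1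
      ⟨e.symm.toRingHom.comp (Φ.comp e.toRingHom), RingHom.ext fun a => e.injective (by
        simp only [RingHom.comp_apply, RingEquiv.toRingHom_eq_coe, RingEquiv.coe_toRingHom,
          RingEquiv.apply_symm_apply, he, α, eval₂Hom_C]
        exact RingHom.congr_fun hB.semi a), fun b => by
        obtain ⟨z, rfl⟩ := Ideal.Quotient.mk_surjective b
        obtain ⟨w, hw⟩ := hα (Φ (α z))
        have hΦ : e.symm (Φ (e (Ideal.Quotient.mk _ z))) = Ideal.Quotient.mk (Ideal.span (Set.range f')) w := by
          rw [RingEquiv.symm_apply_eq, he, he, hw]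
        simp only [RingHom.comp_apply, RingEquiv.toRingHom_eq_coe, RingEquiv.coe_toRingHom, hΦ]
        rw [rbar_mk, rbar_mk, ← map_pow, Ideal.Quotient.eq, hJ, ← Ideal.Quotient.eq,
          map_pow, ← hπα, ← hπα, hw, hB.red]⟩
    exact ⟨f', h, hf', hh⟩
  · rintro ⟨f', h, hf', hh⟩
    have hflat := flat_of_regular f f' hf' hreg
    obtain ⟨Φ, hsemi, hred⟩ := (lifts_iff f' hflat).2 ⟨h, hh⟩
    have hJ : (Ideal.span (Set.range f')).map (MvPolynomial.map (res p k)) = Ideal.span (Set.range f) := by
      rw [Ideal.map_span, ← Set.range_comp]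
      congr 2
      exact funext hf'
    let π0 : (R' ⧸ Ideal.span (Set.range f')) →+* MvPolynomial (Fin n) k ⧸ Ideal.span (Set.range f) :=
      (Ideal.quotEquivOfEq hJ).toRingHom.comp (Ideal.quotientMap _ _ Ideal.le_comap_map)
    have hπ0 : ∀ x, π0 (Ideal.Quotient.mk _ x) = q (MvPolynomial.map (res p k) x) := fun x => rfl
    refine ⟨R' ⧸ Ideal.span (Set.range f'), inferInstance, (Ideal.Quotient.mk _).comp C, π0, Φ,
      { flat := hflat, surj := fun z => ?_, ker_eq := ?_, comm := ?_, semi := hsemi, red := fun b => ?_ }⟩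
    · obtain ⟨x, rfl⟩ := Ideal.Quotient.mk_surjective z
      obtain ⟨x', rfl⟩ := MvPolynomial.map_surjective _ res_surjective x
      exact ⟨Ideal.Quotient.mk _ x', hπ0 x'⟩
    · rw [map_ker_res]
      ext b
      obtain ⟨x, rfl⟩ := Ideal.Quotient.mk_surjective b
      rw [RingHom.mem_ker, hπ0, Ideal.mem_span_singleton]
      constructor
      · intro hx
        rw [Ideal.Quotient.eq_zero_iff_mem, ← hJ,
          Ideal.mem_map_iff_of_surjective _ (MvPolynomial.map_surjective _ res_surjective)] at hx
        obtain ⟨j, hj, hjx⟩ := hx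
        obtain ⟨y, hy⟩ := (map_res_eq_zero_iff (x - j)).1 (by rw [map_sub, hjx, sub_self])
        refine ⟨Ideal.Quotient.mk _ y, ?_⟩
        rw [← map_natCast (Ideal.Quotient.mk (Ideal.span (Set.range f'))), ← map_mul, ← hy, Ideal.Quotient.eq,
          sub_sub_cancel]
        exact hj
      · rintro ⟨c, hc⟩
        obtain ⟨y, rfl⟩ := Ideal.Quotient.mk_surjective c
        rw [← hπ0, hc, map_mul, ← map_natCast (Ideal.Quotient.mk (Ideal.span (Set.range f'))), hπ0,
          map_res_apply_p, map_zero, zero_mul]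
    · refine RingHom.ext fun a => ?_
      simp only [RingHom.comp_apply, hπ0, map_C]
      rfl
    · simp only [π0, RingHom.comp_apply]
      rw [hred, map_pow]

end CI

end Groth.Agent.W2Lift.Residue
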