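import Groth.Agent.W2Lift.Basic
import Mathlib.Algebra.Algebra.Tower

set_option autoImplicit false
set_option linter.unusedSectionVars false

namespace Groth.Agent.W2Lift

universe u

open FrobAlg (W2 res sigma)

variable {p : ℕ} [hp : Fact p.Prime] {k : Type u} [Field k] [CharP k p] [PerfectRing k p]
variable {A B : Type u} [CommRing A] [CommRing B] [Algebra k A] [Algebra k B] [Algebra A B]
  [IsScalarTower k A B]

variable (r : B →ₗ[A] A) {B' : Type u} [CommRing B'] (πB : B' →+* B)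

lemma r_algebraMap_mul (a : A) (b : B) : r (algebraMap A B a * b) = a * r b := by
  rw [← Algebra.smul_def, map_smul, smul_eq_mul]

lemma algebraMap_inj (hr : ∀ a : A, r (algebraMap A B a) = a) :
    Function.Injective (algebraMap A B) := fun a a' h => by rw [← hr a, ← hr a', h]

/-- the subring of elements whose reduction lies in `A` -/
def sub : Subring B' := Subring.comap πB (algebraMap A B).range

/-- the elements `p * b` with `r b = 0` -/
def subIdeal (r : B →ₗ[A] A) : Ideal (sub (A := A) πB) where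
  carrier := {e | ∃ b : B', (e : B') = (p : B') * b ∧ r (πB b) = 0}
  zero_mem' := ⟨0, by simp, by simp⟩
  add_mem' := by
    rintro x y ⟨b, hb, hb0⟩ ⟨c, hc, hc0⟩
    exact ⟨b + c, by simp [hb, hc, mul_add], by simp [hb0, hc0]⟩
  smul_mem' := by
    rintro ⟨e, a, ha⟩ x ⟨b, hb, hb0⟩
    refine ⟨e * b, ?_, ?_⟩
    · change e * (x : B') = _
      rw [hb]; ring
    · rw [map_mul, ← ha, r_algebraMap_mul, hb0, mul_zero]

lemma isW2Liftable_of_retraction (hr : ∀ a : A, r (algebraMap A B a) = a)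
    (hB : FrobAlg.IsW2Liftable p k B) : FrobAlg.IsW2Liftable p k A := by
  classical
  obtain ⟨B', _, ιB, πB, hB⟩ := hB
  have inj := algebraMap_inj r hr
  have hsub : ∀ x : sub (A := A) πB, ∃ a : A, algebraMap A B a = πB x := fun x =>
    RingHom.mem_range.1 x.2
  choose f hf using hsub
  let fhom : sub (A := A) πB →+* A :=
    { toFun := f
      map_one' := inj (by rw [hf, map_one]; simp)
      map_zero' := inj (by rw [hf, map_zero]; simp)
      map_mul' := fun x y => inj (by rw [map_mul, hf, hf, hf]; simp)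
      map_add' := fun x y => inj (by rw [map_add, hf, hf, hf]; simp) }
  let I : Ideal (sub (A := A) πB) := subIdeal (p := p) πB r
  let π : (sub (A := A) πB ⧸ I) →+* A := Ideal.Quotient.lift I fhom fun x hx => by
    obtain ⟨b, hb, _⟩ := hx
    apply inj
    change algebraMap A B (f x) = _
    rw [hf, hb, map_mul, lift_map_p hB, zero_mul, map_zero]
  have hι : ∀ w, ιB w ∈ sub (A := A) πB := fun w =>
    ⟨algebraMap k A (res p k w), by
      rw [← IsScalarTower.algebraMap_apply, ← RingHom.comp_apply, ← hB.comm, RingHom.comp_apply]⟩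
  refine ⟨sub (A := A) πB ⧸ I, inferInstance,
    (Ideal.Quotient.mk I).comp (ιB.codRestrict (sub (A := A) πB) hι), π,
    isLift_of _ _ ?_ ?_ ?_ ?_⟩
  · intro a
    obtain ⟨b', hb'⟩ := hB.surj (algebraMap A B a)
    refine ⟨Ideal.Quotient.mk I ⟨b', ⟨a, hb'.symm⟩⟩, inj ?_⟩
    change algebraMap A B (f _) = _
    rw [hf]; exact hb'
  · refine RingHom.ext fun w => inj ?_
    change algebraMap A B (f _) = algebraMap A B (algebraMap k A (res p k w))
    rw [hf, ← IsScalarTower.algebraMap_apply, ← RingHom.comp_apply, ← hB.comm, RingHom.comp_apply]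
    rfl
  · intro x hx
    obtain ⟨e, rfl⟩ := Ideal.Quotient.mk_surjective x
    have h0 : πB (e : B') = 0 := by
      rw [← hf e]
      change algebraMap A B (π (Ideal.Quotient.mk I e)) = 0
      rw [hx, map_zero]
    obtain ⟨c, hc⟩ := (lift_ker_iff hB _).1 h0
    obtain ⟨d, hd⟩ := hB.surj (algebraMap A B (r (πB c)))
    refine ⟨Ideal.Quotient.mk I ⟨d, ⟨_, hd.symm⟩⟩, ?_⟩
    rw [← map_natCast (Ideal.Quotient.mk I), ← map_mul, Ideal.Quotient.mk_eq_mk_iff_sub_mem]
    refine ⟨c - d, ?_, ?_⟩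
    · push_cast; rw [hc]; ring
    · rw [map_sub, map_sub, hd, hr, sub_self]
  · intro x hx
    obtain ⟨e, rfl⟩ := Ideal.Quotient.mk_surjective x
    rw [← map_natCast (Ideal.Quotient.mk I), ← map_mul, Ideal.Quotient.eq_zero_iff_mem] at hx
    obtain ⟨b, hb, hb0⟩ := hx
    push_cast at hb
    have h1 : πB (e : B') = πB b := by
      rw [← sub_eq_zero, ← map_sub, ← lift_p_mul_iff hB, mul_sub, hb, sub_self]
    change f e = 0
    rw [← hr (f e), hf, h1, hb0]

variable {A' : Type u} [CommRing A']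

lemma exists_frobLift_of_retraction (hr : ∀ a : A, r (algebraMap A B a) = a)
    {ιA : W2 p k →+* A'} {πA : A' →+* A} (hA : FrobAlg.IsLift p k A A' ιA πA)
    {ιB : W2 p k →+* B'} (hB : FrobAlg.IsLift p k B B' ιB πB)
    (φ' : A' →+* B') (hφι : φ'.comp ιA = ιB) (hφπ : πB.comp φ' = (algebraMap A B).comp πA)
    (ΦB : B' →+* B') (hΦB : FrobAlg.IsFrobLift p k B B' ιB πB ΦB) :
    ∃ ΦA : A' →+* A', FrobAlg.IsFrobLift p k A A' ιA πA ΦA := by
  classical
  have inj := algebraMap_inj r hr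
  have hφπ' : ∀ x, πB (φ' x) = algebraMap A B (πA x) := fun x => RingHom.congr_fun hφπ x
  have hp0 : πB (p : B') = 0 := lift_map_p hB
  let R : B' → A' → Prop := fun e x => ∃ b, e = φ' x + (p : B') * b ∧ r (πB b) = 0
  have hex : ∀ e, e ∈ sub (A := A) πB → ∃ x, R e x := by
    rintro e ⟨a, ha⟩
    obtain ⟨x0, hx0⟩ := hA.surj a
    have h0 : πB (e - φ' x0) = 0 := by rw [map_sub, hφπ', hx0, ha, sub_self]
    obtain ⟨b, hb⟩ := (lift_ker_iff hB _).1 h0
    obtain ⟨c, hc⟩ := hA.surj (r (πB b))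
    refine ⟨x0 + (p : A') * c, b - φ' c, ?_, ?_⟩
    · rw [map_add, map_mul, map_natCast]; linear_combination hb
    · rw [map_sub, map_sub, hφπ', hc, hr, sub_self]
  have huniq : ∀ e x x', R e x → R e x' → x = x' := by
    rintro e x x' ⟨b, hb, hb0⟩ ⟨b', hb', hb0'⟩
    have h : φ' (x - x') = (p : B') * (b' - b) := by rw [map_sub]; linear_combination hb' - hb
    have h1 : πA (x - x') = 0 := by
      apply inj; rw [← hφπ', h, map_mul, hp0, zero_mul, map_zero]
    obtain ⟨y, hy⟩ := (lift_ker_iff hA _).1 h1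
    rw [hy, map_mul, map_natCast, ← sub_eq_zero, ← mul_sub, lift_p_mul_iff hB, map_sub,
      hφπ', sub_eq_zero] at h
    have hy0 : πA y = 0 := by rw [← hr (πA y), h, map_sub, map_sub, hb0, hb0', sub_self]
    rw [(lift_p_mul_iff hA y).2 hy0] at hy
    exact sub_eq_zero.1 hy
  have hΦmem : ∀ x, ΦB (φ' x) ∈ sub (A := A) πB := fun x =>
    ⟨πA x ^ p, by rw [hΦB.red, hφπ', map_pow]⟩
  choose Φ hΦ using fun x => hex _ (hΦmem x)
  have mul : ∀ x y, R (ΦB (φ' (x * y))) (Φ x * Φ y) := by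
    intro x y
    obtain ⟨b, hb, hb0⟩ := hΦ x
    obtain ⟨c, hc, hc0⟩ := hΦ y
    refine ⟨φ' (Φ x) * c + φ' (Φ y) * b + (p : B') * b * c, ?_, ?_⟩
    · rw [map_mul, map_mul, hb, hc, map_mul]; ring
    · simp [hp0, hφπ', r_algebraMap_mul, hb0, hc0]
  have add : ∀ x y, R (ΦB (φ' (x + y))) (Φ x + Φ y) := by
    intro x y
    obtain ⟨b, hb, hb0⟩ := hΦ x
    obtain ⟨c, hc, hc0⟩ := hΦ y
    refine ⟨b + c, ?_, ?_⟩
    · rw [map_add, map_add, hb, hc, map_add]; ring
    · simp [hb0, hc0]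
  refine ⟨{ toFun := Φ
            map_one' := huniq _ _ _ (hΦ 1) ⟨0, by simp, by simp⟩
            map_mul' := fun x y => huniq _ _ _ (hΦ (x * y)) (mul x y)
            map_zero' := huniq _ _ _ (hΦ 0) ⟨0, by simp, by simp⟩
            map_add' := fun x y => huniq _ _ _ (hΦ (x + y)) (add x y) }, ⟨hA, ?_, ?_⟩⟩
  · refine RingHom.ext fun w => huniq _ _ _ (hΦ (ιA w)) ⟨0, ?_, by simp⟩
    rw [mul_zero, add_zero]
    change ΦB (φ' (ιA w)) = φ' (ιA (sigma p k w))
    rw [← RingHom.comp_apply φ', hφι, ← RingHom.comp_apply φ', hφι, ← RingHom.comp_apply,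
      hΦB.semi, RingHom.comp_apply]
  · intro x
    change πA (Φ x) = πA x ^ p
    obtain ⟨b, hb, _⟩ := hΦ x
    apply inj
    rw [map_pow, ← hφπ', ← hφπ', ← hΦB.red, hb, map_add, map_mul, hp0, zero_mul, add_zero]

end Groth.Agent.W2Lift
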