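import Groth.Agent.W2Lift.Basic
import Mathlib.FieldTheory.Finite.Polynomial
import Mathlib.Algebra.MvPolynomial.Monad
import Mathlib.Algebra.CharP.Lemmas

set_option autoImplicit false
set_option linter.unusedSectionVars false

namespace Groth.Agent.W2Lift

universe u

open MvPolynomial
open FrobAlg (W2 res)

lemma exists_natCast_mul_eq_sum_pow_sub (p : ℕ) [Fact p.Prime] (n : ℕ) :
    ∃ C' : MvPolynomial (Fin n) ℤ, (p : MvPolynomial (Fin n) ℤ) * C' =
      (∑ i, X i) ^ p - ∑ i, X i ^ p := by
  have h : MvPolynomial.C (p : ℤ) ∣ ((∑ i, X i) ^ p - ∑ i, X i ^ p : MvPolynomial (Fin n) ℤ) := by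
    rw [C_dvd_iff_zmod, map_sub, map_pow, map_sum, map_sum, sub_eq_zero, sum_pow_char]
    simp
  obtain ⟨C', hC⟩ := h
  refine ⟨C', ?_⟩
  rw [← map_natCast MvPolynomial.C, ← hC]

variable {k : Type u} [Field k] {n : ℕ}

/-- exponent vectors -/
noncomputable def diagPart (d : Fin n × Fin 2 →₀ ℕ) : Fin n →₀ ℕ :=
  Finsupp.equivFunOnFinite.symm fun i => d (i, 0)

lemma diagPart_apply (d : Fin n × Fin 2 →₀ ℕ) (i : Fin n) : diagPart d i = d (i, 0) := rfl

open Classical in
/-- the diagonal projection -/
noncomputable def diag : MvPolynomial (Fin n × Fin 2) k →ₗ[k] MvPolynomial (Fin n) k :=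
  (MvPolynomial.basisMonomials (Fin n × Fin 2) k).constr k fun d =>
    if ∀ i, d (i, 0) = d (i, 1) then monomial (diagPart d) 1 else 0

open Classical in
lemma diag_monomial (d : Fin n × Fin 2 →₀ ℕ) (c : k) :
    diag (monomial d c) =
      if ∀ i, d (i, 0) = d (i, 1) then monomial (diagPart d) c else 0 := by
  have h1 : monomial d c = c • (MvPolynomial.basisMonomials (Fin n × Fin 2) k) d := by
    rw [coe_basisMonomials, smul_monomial, smul_eq_mul, mul_one]
  rw [h1, map_smul, diag, Module.Basis.constr_basis]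
  split_ifs
  · rw [smul_monomial, smul_eq_mul, mul_one]
  · rw [smul_zero]

lemma diag_prod_mul (i : Fin n) (f : MvPolynomial (Fin n × Fin 2) k) :
    diag (X (i, 0) * X (i, 1) * f) = X i * diag f := by
  classical
  induction f using MvPolynomial.induction_on' with
  | add f g hf hg => rw [mul_add, map_add, map_add, hf, hg, mul_add]
  | monomial d c =>
    simp only [X, monomial_mul, diag_monomial, one_mul]
    have hb : (∀ j, (Finsupp.single (i, (0 : Fin 2)) 1 + Finsupp.single (i, 1) 1 + d : Fin n × Fin 2 →₀ ℕ) (j, 0) =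
        (Finsupp.single (i, (0 : Fin 2)) 1 + Finsupp.single (i, 1) 1 + d : Fin n × Fin 2 →₀ ℕ) (j, 1)) ↔
        ∀ j, d (j, 0) = d (j, 1) := by
      refine forall_congr' fun j => ?_
      rcases eq_or_ne i j with h | h <;> simp [h]
    simp only [hb]
    split_ifs with hd
    · rw [monomial_mul, one_mul]
      congr 2
      ext j
      rcases eq_or_ne i j with h | h <;> simp [diagPart_apply, h]
    · rw [mul_zero]

lemma diag_one : diag (1 : MvPolynomial (Fin n × Fin 2) k) = 1 := by
  classical
  rw [← C_1, C_apply, diag_monomial, if_pos (by simp)]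
  have : diagPart (0 : Fin n × Fin 2 →₀ ℕ) = 0 := by ext; simp [diagPart_apply]
  rw [this]; rfl

lemma diag_eval (P : MvPolynomial (Fin n) k) :
    diag (aeval (fun i : Fin n => (X (i, 0) * X (i, 1) : MvPolynomial (Fin n × Fin 2) k)) P) = P := by
  induction P using MvPolynomial.induction_on with
  | C a =>
    rw [aeval_C, Algebra.algebraMap_eq_smul_one, map_smul, diag_one,
      ← Algebra.algebraMap_eq_smul_one]
    rfl
  | add f g hf hg => rw [map_add, map_add, hf, hg]
  | mul_X f i hf => rw [map_mul, aeval_X, mul_comm, diag_prod_mul, hf, mul_comm]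

lemma diag_pow_mul (v : Fin n × Fin 2) (p : ℕ) (f : MvPolynomial (Fin n × Fin 2) k) :
    ∃ g, diag (X v ^ p * f) = X v.1 ^ p * g := by
  classical
  induction f using MvPolynomial.induction_on' with
  | add f g hf hg =>
    obtain ⟨a, ha⟩ := hf; obtain ⟨b, hb⟩ := hg
    exact ⟨a + b, by rw [mul_add, map_add, ha, hb, mul_add]⟩
  | monomial d c =>
    rw [X_pow_eq_monomial, monomial_mul, one_mul, diag_monomial]
    split_ifs with hd
    · refine ⟨monomial (diagPart (Finsupp.single v p + d) - Finsupp.single v.1 p) c, ?_⟩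
      rw [X_pow_eq_monomial, monomial_mul, one_mul]
      congr 2
      have hle : p ≤ (Finsupp.single v p + d) (v.1, 0) := by
        obtain ⟨i, j⟩ := v
        fin_cases j
        · simp
        · rw [hd i]; simp
      rw [add_tsub_cancel_of_le]
      intro j
      rcases eq_or_ne v.1 j with h | h
      · subst h; rw [Finsupp.single_eq_same]; exact hle
      · simp [Finsupp.single_eq_of_ne h.symm]
    · exact ⟨0, by rw [mul_zero]⟩

section

variable {p : ℕ} [hp : Fact p.Prime]

/-- the substitution on three variables -/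
noncomputable def subst (R : Type*) [CommRing R] (n : ℕ) (i : Fin n) : MvPolynomial (Fin 2) R :=
  if (i : ℕ) = 0 then X 0 else if (i : ℕ) = 1 then X 1 else if (i : ℕ) = 2 then -(X 0 + X 1) else 0

lemma sum_subst (R : Type*) [CommRing R] (g : MvPolynomial (Fin 2) R → MvPolynomial (Fin 2) R)
    (hg : g 0 = 0) (hn : 3 ≤ n) :
    ∑ i, g (subst R n i) = g (X 0) + g (X 1) + g (-(X 0 + X 1)) := by
  obtain ⟨m, rfl⟩ := Nat.exists_eq_add_of_le hn
  rw [Fin.sum_univ_add, Fin.sum_univ_three]
  have h0 : ∀ x : Fin m, g (subst R (3 + m) (Fin.natAdd 3 x)) = 0 := fun x => by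
    rw [show subst R (3 + m) (Fin.natAdd 3 x) = 0 by
      simp only [subst, Fin.val_natAdd]
      rw [if_neg (by omega), if_neg (by omega), if_neg (by omega)], hg]
  rw [Finset.sum_eq_zero fun x _ => h0 x, add_zero]
  simp [subst]

/-- the exponent `(p-1, 1)` -/
noncomputable def expo (p : ℕ) : Fin 2 →₀ ℕ := Finsupp.single 0 (p - 1) + Finsupp.single 1 1

lemma expo_zero (p : ℕ) : expo p 0 = p - 1 := by simp [expo]

lemma expo_one (p : ℕ) : expo p 1 = 1 := by simp [expo]

lemma coeff_expo_pow_mul {R : Type*} [CommRing R] (j : Fin 2) (g : MvPolynomial (Fin 2) R) :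
    coeff (expo p) (X j ^ p * g) = 0 := by
  classical
  rw [X_pow_eq_monomial, coeff_monomial_mul', if_neg]
  intro h
  have h0 := h j
  rw [Finsupp.single_eq_same] at h0
  have := hp.out.two_le
  fin_cases j
  · simp [expo_zero] at h0; omega
  · simp [expo_one] at h0; omega

lemma coeff_expo_subst_pow_mul {R : Type*} [CommRing R] [CharP R p] (i : Fin n)
    (g : MvPolynomial (Fin 2) R) : coeff (expo p) (subst R n i ^ p * g) = 0 := by
  unfold subst
  split_ifs
  · exact coeff_expo_pow_mul 0 g
  · exact coeff_expo_pow_mul 1 g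
  · rw [neg_pow, add_pow_char, mul_assoc, add_mul, mul_add, coeff_add,
      ← mul_left_comm (X 0 ^ p), ← mul_left_comm (X 1 ^ p), coeff_expo_pow_mul,
      coeff_expo_pow_mul, add_zero]
  · rw [zero_pow hp.out.ne_zero, zero_mul, coeff_zero]

lemma coeff_expo_add_pow : coeff (expo p) ((X 0 + X 1 : MvPolynomial (Fin 2) ℤ) ^ p) = p := by
  classical
  rw [add_pow, coeff_sum, Finset.sum_eq_single (p - 1)]
  · rw [X_pow_eq_monomial, X_pow_eq_monomial, monomial_mul, one_mul, ← map_natCast MvPolynomial.C,
      mul_comm, C_mul_monomial, coeff_monomial, if_pos, mul_one]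
    · rw [Nat.choose_symm_of_eq_add (show p = (p - 1) + 1 by have := hp.out.one_le; omega),
        Nat.choose_one_right]
    · ext j
      have := hp.out.one_le
      fin_cases j <;> simp [expo] <;> omega
  · intro b hb hb'
    rw [X_pow_eq_monomial, X_pow_eq_monomial, monomial_mul, one_mul, ← map_natCast MvPolynomial.C,
      mul_comm, C_mul_monomial, coeff_monomial, if_neg]
    intro h
    have := DFunLike.congr_fun h 0
    rw [expo_zero] at this
    simp at this
    exact hb' this
  · intro h
    exact absurd (Finset.mem_range.2 (by have := hp.out.one_le; omega)) h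

end

theorem not_isW2Liftable_quadric_aux (p : ℕ) [hp : Fact p.Prime] (k : Type u) [Field k] [CharP k p]
    [PerfectRing k p] (n : ℕ) (hn : 3 ≤ n) (K : Ideal (MvPolynomial (Fin n × Fin 2) k))
    (hK : K = Ideal.span
        (insert (∑ i : Fin n, MvPolynomial.X (i, (0 : Fin 2)) * MvPolynomial.X (i, (1 : Fin 2)))
          (Set.range fun v : Fin n × Fin 2 =>
            (MvPolynomial.X v : MvPolynomial (Fin n × Fin 2) k) ^ p))) :
    ¬ FrobAlg.IsW2Liftable p k (MvPolynomial (Fin n × Fin 2) k ⧸ K) := by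
  rintro ⟨B, _, ι, π, hB⟩
  choose Y hY using fun v => hB.surj (Ideal.Quotient.mk K (X v))
  obtain ⟨C', hC⟩ := exists_natCast_mul_eq_sum_pow_sub p n
  let u : Fin n → MvPolynomial (Fin n × Fin 2) k := fun i => X (i, 0) * X (i, 1)
  have hq : π (∑ i, Y (i, 0) * Y (i, 1)) = 0 := by
    simp only [map_sum, map_mul, hY]
    simp only [← map_mul, ← map_sum]
    exact Ideal.Quotient.eq_zero_iff_mem.2 (hK ▸ Ideal.subset_span (Set.mem_insert _ _))
  have hv : ∀ v, π (Y v ^ p) = 0 := fun v => by
    rw [map_pow, hY, ← map_pow]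
    exact Ideal.Quotient.eq_zero_iff_mem.2 (hK ▸ Ideal.subset_span (Set.mem_insert_of_mem _ ⟨v, rfl⟩))
  obtain ⟨G, hG⟩ := (lift_ker_iff hB _).1 hq
  choose H hH using fun v => (lift_ker_iff hB _).1 (hv v)
  have h1 := congrArg (aeval fun i => Y (i, 0) * Y (i, 1)) hC
  simp only [map_mul, map_natCast, map_sub, map_pow, map_sum, aeval_X] at h1
  have h0 : (p : B) * aeval (fun i => Y (i, 0) * Y (i, 1)) C' = 0 := by
    rw [h1, hG, mul_pow]
    have e1 : (p : B) ^ p = 0 := by
      obtain ⟨m, hm⟩ := Nat.exists_eq_add_of_le hp.out.two_le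
      rw [hm, pow_add, sq, ← hm, lift_p_sq ι, zero_mul]
    have e2 : ∀ i, (Y (i, 0) * Y (i, 1)) ^ p = 0 := fun i => by
      rw [mul_pow, hH, hH, mul_mul_mul_comm, lift_p_sq ι, zero_mul]
    simp [e1, mul_pow] at e2 ⊢
    exact Finset.sum_eq_zero fun i _ => e2 i
  have h2 := (lift_p_mul_iff hB _).1 h0
  have hmem : aeval u (MvPolynomial.map (Int.castRingHom k) C') ∈ K := by
    rw [← Ideal.Quotient.eq_zero_iff_mem, ← h2]
    suffices h : (Ideal.Quotient.mk K).comp ((aeval u).toRingHom.comp
        (MvPolynomial.map (Int.castRingHom k))) =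
        π.comp (aeval fun i => Y (i, 0) * Y (i, 1)).toRingHom from RingHom.congr_fun h C'
    refine MvPolynomial.ringHom_ext (fun z => ?_) (fun i => ?_)
    · simp
    · simp [u, hY]
  -- the linear functional
  let χ : MvPolynomial (Fin n) k →ₐ[k] MvPolynomial (Fin 2) k := aeval (subst k n)
  haveI : CharP (MvPolynomial (Fin 2) k) p := inferInstance
  have hkill : ∀ f ∈ K, coeff (expo p) (χ (diag f)) = 0 := by
    suffices h : ∀ f ∈ K, ∀ g, coeff (expo p) (χ (diag (f * g))) = 0 from
      fun f hf => by simpa using h f hf 1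
    intro f hf
    rw [hK] at hf
    induction hf using Submodule.span_induction with
    | mem f hf =>
      intro g
      rcases hf with rfl | ⟨v, rfl⟩
      · rw [Finset.sum_mul, map_sum]
        simp only [diag_prod_mul]
        rw [← Finset.sum_mul, map_mul, map_sum]
        have : ∑ i, χ (X i) = 0 := by
          simp only [χ, aeval_X]
          refine (sum_subst k id rfl hn).trans ?_
          simp only [id]; ring
        rw [this, zero_mul, coeff_zero]
      · obtain ⟨g', hg'⟩ := diag_pow_mul v p g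
        change coeff (expo p) (χ (diag (X v ^ p * g))) = 0
        rw [hg', map_mul, map_pow]
        simp only [χ, aeval_X]
        exact coeff_expo_subst_pow_mul _ _
    | zero => intro g; simp
    | add a b _ _ ha hb =>
      intro g
      rw [add_mul, map_add, map_add, coeff_add, ha g, hb g, add_zero]
    | smul a f _ hf =>
      intro g
      rw [smul_eq_mul, mul_comm a f, mul_assoc]
      exact hf _
  have h3 := hkill _ hmem
  rw [diag_eval] at h3
  -- compute the coefficient
  have h4 := congrArg (fun P => coeff (expo p) (aeval (subst ℤ n) P)) hC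
  simp only [map_mul, map_natCast, map_sub, map_pow, map_sum, aeval_X] at h4
  rw [← map_natCast MvPolynomial.C, coeff_C_mul] at h4
  have hs1 : ∑ i, subst ℤ n i = 0 := by
    refine (sum_subst ℤ id rfl hn).trans ?_
    simp only [id]; ring
  have hs2 := sum_subst ℤ (· ^ p) (zero_pow hp.out.ne_zero) hn
  beta_reduce at hs2
  rw [hs1, hs2, zero_pow hp.out.ne_zero, zero_sub, coeff_neg, coeff_add, coeff_add] at h4
  have hX : ∀ j : Fin 2, coeff (expo p) (X j ^ p : MvPolynomial (Fin 2) ℤ) = 0 := fun j => by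
    simpa using coeff_expo_pow_mul (p := p) j (1 : MvPolynomial (Fin 2) ℤ)
  rw [hX 0, hX 1, neg_pow, zero_add, zero_add, ← map_one (MvPolynomial.C (R := ℤ) (σ := Fin 2)),
    ← map_neg, ← map_pow, coeff_C_mul, coeff_expo_add_pow] at h4
  have h5 : coeff (expo p) (aeval (subst ℤ n) C') = -(-1) ^ p := by
    refine mul_left_cancel₀ (show (p : ℤ) ≠ 0 by exact_mod_cast hp.out.ne_zero) ?_
    rw [h4]; ring
  have h6 : χ (MvPolynomial.map (Int.castRingHom k) C') =
      MvPolynomial.map (Int.castRingHom k) (aeval (subst ℤ n) C') := by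
    suffices h : χ.toRingHom.comp (MvPolynomial.map (Int.castRingHom k)) =
        (MvPolynomial.map (Int.castRingHom k)).comp (aeval (subst ℤ n)).toRingHom from
      RingHom.congr_fun h C'
    refine MvPolynomial.ringHom_ext (fun z => ?_) (fun i => ?_)
    · simp [χ]
    · simp only [RingHom.comp_apply, AlgHom.toRingHom_eq_coe, RingHom.coe_coe, map_X, χ, aeval_X]
      unfold subst
      split_ifs <;> simp
  rw [h6, coeff_map, h5, map_neg, map_pow, map_neg, map_one, neg_eq_zero] at h3
  exact pow_ne_zero p (neg_ne_zero.2 one_ne_zero) h3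

theorem not_isW2Liftable_quadric (p : ℕ) [hp : Fact p.Prime] (k : Type u) [Field k] [CharP k p]
    [PerfectRing k p] (n : ℕ) (hn : 3 ≤ n) :
    ¬ FrobAlg.IsW2Liftable p k
      (MvPolynomial (Fin n × Fin 2) k ⧸ Ideal.span
        (insert (∑ i : Fin n, MvPolynomial.X (i, (0 : Fin 2)) * MvPolynomial.X (i, (1 : Fin 2)))
          (Set.range fun v : Fin n × Fin 2 =>
            (MvPolynomial.X v : MvPolynomial (Fin n × Fin 2) k) ^ p))) :=
  not_isW2Liftable_quadric_aux p k n hn _ rfl

end Groth.Agent.W2Lift
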