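import Groth.Agent.W2Lift.Quadric

/-! The split ordinary double point has no lift with a Frobenius lift. -/

set_option autoImplicit false
set_option linter.unusedSectionVars false

namespace Groth.Agent.W2Lift

universe u

open MvPolynomial
open FrobAlg (W2 res)

variable {n : ℕ}

theorem not_mem_odp (p : ℕ) [hp : Fact p.Prime] (k : Type u) [Field k] [CharP k p] (hn : 3 ≤ n)
    (C' : MvPolynomial (Fin n) ℤ)
    (hC : (p : MvPolynomial (Fin n) ℤ) * C' = (∑ i, X i) ^ p - ∑ i, X i ^ p) (c : k)
    (K : Ideal (MvPolynomial (Fin n × Fin 2) k))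
    (hK : K = Ideal.span
        (insert (∑ i : Fin n, MvPolynomial.X (i, (0 : Fin 2)) * MvPolynomial.X (i, (1 : Fin 2)))
          (Set.range fun v : Fin n × Fin 2 =>
            (MvPolynomial.X v : MvPolynomial (Fin n × Fin 2) k) ^ p))) :
    aeval (fun i : Fin n => (X (i, 0) * X (i, 1) : MvPolynomial (Fin n × Fin 2) k))
      (MvPolynomial.map (Int.castRingHom k) C') + C c ∉ K := by
  intro hmem
  -- the linear functional
  let χ : MvPolynomial (Fin n) k →ₐ[k] MvPolynomial (Fin 2) k := aeval (subst k n)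
  haveI : CharP (MvPolynomial (Fin 2) k) p := inferInstance
  have hkill : ∀ f ∈ K, coeff (expo p) (χ (diag f)) = 0 := by
    suffices h : ∀ f ∈ K, ∀ g, coeff (expo p) (χ (diag (f * g))) = 0 from
      fun f hf => by simpa using h f hf 1
    intro f hf
    rw [hK] at hf
    induction hf using Submodule.span_induction with
    | mem f hf =>
      intro g
      rcases hf with rfl | ⟨v, rfl⟩
      · rw [Finset.sum_mul, map_sum]
        simp only [diag_prod_mul]
        rw [← Finset.sum_mul, map_mul, map_sum]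
        have : ∑ i, χ (X i) = 0 := by
          simp only [χ, aeval_X]
          refine (sum_subst k id rfl hn).trans ?_
          simp only [id]; ring
        rw [this, zero_mul, coeff_zero]
      · obtain ⟨g', hg'⟩ := diag_pow_mul v p g
        change coeff (expo p) (χ (diag (X v ^ p * g))) = 0
        rw [hg', map_mul, map_pow]
        simp only [χ, aeval_X]
        exact coeff_expo_subst_pow_mul _ _
    | zero => intro g; simp
    | add a b _ _ ha hb =>
      intro g
      rw [add_mul, map_add, map_add, coeff_add, ha g, hb g, add_zero]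
    | smul a f _ hf =>
      intro g
      rw [smul_eq_mul, mul_comm a f, mul_assoc]
      exact hf _
  have h3 := hkill _ hmem
  have hc0 : coeff (expo p) (χ (diag (C c : MvPolynomial (Fin n × Fin 2) k))) = 0 := by
    have : (C c : MvPolynomial (Fin n × Fin 2) k) = c • 1 := by rw [MvPolynomial.smul_eq_C_mul, mul_one]
    rw [this, map_smul, diag_one, map_smul, map_one, coeff_smul, coeff_one, if_neg, smul_zero]
    intro h
    have := DFunLike.congr_fun h 1
    simp [expo_one] at this
  rw [map_add, map_add, coeff_add, hc0, add_zero, diag_eval] at h3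
  -- compute the coefficient
  have h4 := congrArg (fun P => coeff (expo p) (aeval (subst ℤ n) P)) hC
  simp only [map_mul, map_natCast, map_sub, map_pow, map_sum, aeval_X] at h4
  rw [← map_natCast MvPolynomial.C, coeff_C_mul] at h4
  have hs1 : ∑ i, subst ℤ n i = 0 := by
    refine (sum_subst ℤ id rfl hn).trans ?_
    simp only [id]; ring
  have hs2 := sum_subst ℤ (· ^ p) (zero_pow hp.out.ne_zero) hn
  beta_reduce at hs2
  rw [hs1, hs2, zero_pow hp.out.ne_zero, zero_sub, coeff_neg, coeff_add, coeff_add] at h4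
  have hX : ∀ j : Fin 2, coeff (expo p) (X j ^ p : MvPolynomial (Fin 2) ℤ) = 0 := fun j => by
    simpa using coeff_expo_pow_mul (p := p) j (1 : MvPolynomial (Fin 2) ℤ)
  rw [hX 0, hX 1, neg_pow, zero_add, zero_add, ← map_one (MvPolynomial.C (R := ℤ) (σ := Fin 2)),
    ← map_neg, ← map_pow, coeff_C_mul, coeff_expo_add_pow] at h4
  have h5 : coeff (expo p) (aeval (subst ℤ n) C') = -(-1) ^ p := by
    refine mul_left_cancel₀ (show (p : ℤ) ≠ 0 by exact_mod_cast hp.out.ne_zero) ?_
    rw [h4]; ring
  have h6 : χ (MvPolynomial.map (Int.castRingHom k) C') =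
      MvPolynomial.map (Int.castRingHom k) (aeval (subst ℤ n) C') := by
    suffices h : χ.toRingHom.comp (MvPolynomial.map (Int.castRingHom k)) =
        (MvPolynomial.map (Int.castRingHom k)).comp (aeval (subst ℤ n)).toRingHom from
      RingHom.congr_fun h C'
    refine MvPolynomial.ringHom_ext (fun z => ?_) (fun i => ?_)
    · simp [χ]
    · simp only [RingHom.comp_apply, AlgHom.toRingHom_eq_coe, RingHom.coe_coe, map_X, χ, aeval_X]
      unfold subst
      split_ifs <;> simp
  rw [h6, coeff_map, h5, map_neg, map_pow, map_neg, map_one, neg_eq_zero] at h3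
  exact pow_ne_zero p (neg_ne_zero.2 one_ne_zero) h3

theorem not_isFLiftable_odp (p : ℕ) [hp : Fact p.Prime] (k : Type u) [Field k] [CharP k p]
    [PerfectRing k p] (hn : 3 ≤ n) (I : Ideal (MvPolynomial (Fin n × Fin 2) k))
    (hI : I = Ideal.span
        {(∑ i : Fin n, MvPolynomial.X (i, (0 : Fin 2)) * MvPolynomial.X (i, (1 : Fin 2)))}) :
    ¬ FrobAlg.IsFLiftable p k (MvPolynomial (Fin n × Fin 2) k ⧸ I) := by
  rintro ⟨B, _, ι, π, Φ, hB⟩
  choose Y hY using fun v => hB.surj (Ideal.Quotient.mk I (X v))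
  obtain ⟨C', hC⟩ := exists_natCast_mul_eq_sum_pow_sub p n
  have hq : π (∑ i, Y (i, 0) * Y (i, 1)) = 0 := by
    simp only [map_sum, map_mul, hY]
    simp only [← map_mul, ← map_sum]
    exact Ideal.Quotient.eq_zero_iff_mem.2 (hI ▸ Ideal.subset_span rfl)
  obtain ⟨G, hG⟩ := (lift_ker_iff hB.toIsLift _).1 hq
  choose H hH using fun v => (lift_ker_iff hB.toIsLift (Φ (Y v) - Y v ^ p)).1 (by
    rw [map_sub, hB.red, map_pow, sub_self])
  -- apply Frobenius to the equation
  have hΦ : ∑ i, Φ (Y (i, 0)) * Φ (Y (i, 1)) = (p : B) * Φ G := by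
    simp only [← map_mul, ← map_sum, hG, map_natCast]
    rw [map_mul, map_natCast]
  have hp2 : (p : B) * p = 0 := lift_p_sq ι
  have hexp : ∀ i, Φ (Y (i, 0)) * Φ (Y (i, 1)) = (Y (i, 0) * Y (i, 1)) ^ p +
      (p : B) * (Y (i, 0) ^ p * H (i, 1) + Y (i, 1) ^ p * H (i, 0)) := fun i => by
    rw [eq_add_of_sub_eq' (hH (i, 0)), eq_add_of_sub_eq' (hH (i, 1)), mul_pow]
    linear_combination H (i, 0) * H (i, 1) * hp2
  have h1 := congrArg (aeval fun i => Y (i, 0) * Y (i, 1)) hC
  simp only [map_mul, map_natCast, map_sub, map_pow, map_sum, aeval_X] at h1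
  have hGp : (∑ i, Y (i, 0) * Y (i, 1)) ^ p = 0 := by
    rw [hG, mul_pow]
    obtain ⟨m, hm⟩ := Nat.exists_eq_add_of_le hp.out.two_le
    rw [show (p : B) ^ p = (p : B) ^ (2 + m) by rw [← hm], pow_add, sq, hp2, zero_mul, zero_mul]
  simp only [hexp] at hΦ
  rw [Finset.sum_add_distrib, ← Finset.mul_sum] at hΦ
  have h0 : (p : B) * (aeval (fun i => Y (i, 0) * Y (i, 1)) C' + Φ G -
      ∑ i, (Y (i, 0) ^ p * H (i, 1) + Y (i, 1) ^ p * H (i, 0))) = 0 := by
    rw [hGp] at h1
    linear_combination h1 - hΦ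
  have h2 := (lift_p_mul_iff hB.toIsLift _).1 h0
  simp only [map_sub, map_add, map_sum, map_mul, map_pow, hY, hB.red] at h2
  let u : Fin n → MvPolynomial (Fin n × Fin 2) k := fun i => X (i, 0) * X (i, 1)
  have e1 : π (aeval (fun i => Y (i, 0) * Y (i, 1)) C') =
      Ideal.Quotient.mk I (aeval u (MvPolynomial.map (Int.castRingHom k) C')) := by
    suffices h : π.comp (aeval fun i => Y (i, 0) * Y (i, 1)).toRingHom =
        (Ideal.Quotient.mk I).comp ((aeval u).toRingHom.comp (MvPolynomial.map (Int.castRingHom k)))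
      from RingHom.congr_fun h C'
    refine MvPolynomial.ringHom_ext (fun z => ?_) (fun i => ?_)
    · simp
    · simp [u, hY]
  obtain ⟨g, hg⟩ := Ideal.Quotient.mk_surjective (π G)
  obtain ⟨h, hh⟩ : ∃ h : Fin n × Fin 2 → MvPolynomial (Fin n × Fin 2) k,
      ∀ v, Ideal.Quotient.mk I (h v) = π (H v) :=
    ⟨fun v => (Ideal.Quotient.mk_surjective (π (H v))).choose,
      fun v => (Ideal.Quotient.mk_surjective (π (H v))).choose_spec⟩
  rw [e1, ← hg] at h2
  simp only [← hh, ← map_pow, ← map_mul, ← map_add, ← map_sum, ← map_sub,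
    Ideal.Quotient.eq_zero_iff_mem] at h2
  let K : Ideal (MvPolynomial (Fin n × Fin 2) k) := Ideal.span
        (insert (∑ i : Fin n, MvPolynomial.X (i, (0 : Fin 2)) * MvPolynomial.X (i, (1 : Fin 2)))
          (Set.range fun v : Fin n × Fin 2 =>
            (MvPolynomial.X v : MvPolynomial (Fin n × Fin 2) k) ^ p))
  have hIK : I ≤ K := hI ▸ Ideal.span_mono (Set.singleton_subset_iff.2 (Set.mem_insert _ _))
  have hXK : ∀ v, (X v : MvPolynomial (Fin n × Fin 2) k) ^ p ∈ K :=
    fun v => Ideal.subset_span (Set.mem_insert_of_mem _ ⟨v, rfl⟩)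
  have hgp : g ^ p - C (constantCoeff g ^ p) ∈ K := by
    clear hg h2
    induction g using MvPolynomial.induction_on with
    | C a => simp
    | add a b ha hb =>
        have := K.add_mem ha hb
        convert this using 1
        simp only [add_pow_char, map_add]
        ring
    | mul_X a v _ =>
        simp only [map_mul, constantCoeff_X, mul_zero, zero_pow hp.out.ne_zero, map_zero, sub_zero,
          mul_pow]
        exact K.mul_mem_left _ (hXK v)
  refine not_mem_odp p k hn C' hC (constantCoeff g ^ p) K rfl ?_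
  have hsum : ∑ i, (X (i, (0 : Fin 2)) ^ p * h (i, 1) + X (i, 1) ^ p * h (i, 0)) ∈ K :=
    K.sum_mem fun i _ => K.add_mem (K.mul_mem_right _ (hXK _)) (K.mul_mem_right _ (hXK _))
  have := K.sub_mem (K.add_mem (hIK h2) hsum) hgp
  convert this using 1
  ring

end Groth.Agent.W2Lift
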